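import Cfsg.Agent.Lib.SpinExt.Base

/-!
# An elementary abelian group acting with fixed points the centre

The fixed points of the hyperplanes of `A` are commuting pieces. Splitting along orbits reduces to a
single piece (an element of prime order) or to two pieces exchanged by an index-two step.
-/

set_option autoImplicit false
set_option linter.unusedSectionVars false
set_option linter.style.haveILetI false

namespace CfsgLib.SpinExt

open Cfsg
open scoped commutatorElement

variable {G : Type*} [Group G]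

/-- A commutator with an element centralizing `g` is centralized by `g`. -/
theorem commute_comm {z : G} {E : Subgroup G} (h : Sp z E) {f g b : G} (hf : f ∈ E) (hg : g ∈ E)
    (hgb : Commute g b) (hzb : Commute b z) : Commute g (f * b * f⁻¹ * b⁻¹) := by
  obtain ⟨w, hw, hwf, hwb, hwg⟩ : ∃ w, g * f * g⁻¹ * f⁻¹ = w ∧ Commute w f ∧ Commute w b ∧
      Commute w g := by
    rcases h.comm g hg f hf with e | e
    · exact ⟨1, e, Commute.one_left f, Commute.one_left b, Commute.one_left g⟩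
    · exact ⟨z, e, (h.central f hf).symm, hzb.symm, (h.central g hg).symm⟩
  refine mul_inv_eq_iff_eq_mul.mp ?_
  calc g * (f * b * f⁻¹ * b⁻¹) * g⁻¹
      = (g * f * g⁻¹) * (g * b * g⁻¹) * (g * f * g⁻¹)⁻¹ * (g * b * g⁻¹)⁻¹ := by group
    _ = w * f * b * (w * f)⁻¹ * b⁻¹ := by
      rw [show g * f * g⁻¹ = w * f by rw [← hw]; group, hgb.eq, mul_inv_cancel_right]
    _ = f * b * w * w⁻¹ * f⁻¹ * b⁻¹ := by
      rw [show (w * f)⁻¹ = (f * w)⁻¹ by rw [hwf.eq], mul_assoc w f b, (hwf.mul_right hwb).eq]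
      group
    _ = f * b * f⁻¹ * b⁻¹ := by rw [mul_inv_cancel_right]

/-- Conjugate of a subgroup. -/
def conjSub (x : G) (B : Subgroup G) : Subgroup G := B.map (MulAut.conj x).toMonoidHom

theorem mem_conjSub {x : G} {B : Subgroup G} {g : G} : g ∈ conjSub x B ↔ x⁻¹ * g * x ∈ B := by
  constructor
  · rintro ⟨b, hb, rfl⟩
    show x⁻¹ * (x * b * x⁻¹) * x ∈ B
    rwa [show x⁻¹ * (x * b * x⁻¹) * x = b by group]
  · intro hg
    exact ⟨_, hg, show x * (x⁻¹ * g * x) * x⁻¹ = g by group⟩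

theorem conjSub_mul (x y : G) (B : Subgroup G) : conjSub (x * y) B = conjSub x (conjSub y B) := by
  ext g
  rw [mem_conjSub, mem_conjSub, mem_conjSub,
    show (x * y)⁻¹ * g * (x * y) = y⁻¹ * (x⁻¹ * g * x) * y by group]

theorem conjSub_one (B : Subgroup G) : conjSub 1 B = B := by
  ext g
  rw [mem_conjSub]
  simp

theorem mem_normalizer_of_conjSub {x : G} {B : Subgroup G} (h : conjSub x B = B) :
    x ∈ Subgroup.normalizer (B : Set G) :=
  Subgroup.mem_normalizer_iff.mpr fun g => by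
    conv_rhs => rw [← h, mem_conjSub, show x⁻¹ * (x * g * x⁻¹) * x = g by group]

section Setting

variable [Finite G]

/-- The hypotheses at an elementary abelian group. -/
structure Ab (z : G) (E X A : Subgroup G) (q : ℕ) : Prop where
  sp : Sp z E
  prime : q.Prime
  odd : Odd q
  two : IsPGroup 2 X
  comm : IsMulCommutative A
  pow : ∀ a ∈ A, a ^ q = 1
  AE : A ≤ Subgroup.normalizer (E : Set G)
  XE : X ≤ Subgroup.normalizer (E : Set G)
  XA : X ≤ Subgroup.normalizer (A : Set G)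
  disj : E ⊓ (A ⊔ X) = ⊥
  fixed : ∀ e ∈ E, (∀ a ∈ A, Commute e a) → e = 1 ∨ e = z

/-- The fixed points of a subgroup on `E`. -/
def piece (E B : Subgroup G) : Subgroup G := E ⊓ Subgroup.centralizer (B : Set G)

/-- The relevant hyperplanes. -/
def planes (z : G) (E A : Subgroup G) (q : ℕ) : Set (Subgroup G) :=
  {B | B ≤ A ∧ B.relIndex A = q ∧ ∃ e ∈ piece E B, e ≠ 1 ∧ e ≠ z}

/-- The join of the pieces of a set of hyperplanes. -/
def span (E : Subgroup G) (S : Set (Subgroup G)) : Subgroup G := ⨆ B ∈ S, piece E B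

namespace Ab

variable {z : G} {E X A : Subgroup G} {q : ℕ} (h : Ab z E X A q)

include h

theorem commA {a b : G} (ha : a ∈ A) (hb : b ∈ A) : Commute a b :=
  haveI := h.comm
  congrArg Subtype.val (mul_comm' (⟨a, ha⟩ : A) ⟨b, hb⟩)

theorem commute_z {a : G} (ha : a ∈ A) : Commute a z :=
  mul_inv_eq_iff_eq_mul.mp (h.sp.conj_z (h.AE ha))

theorem isPGroupA : IsPGroup q A := fun a => ⟨1, Subtype.ext (by rw [pow_one]; exact h.pow a a.2)⟩

theorem coprime (K : Subgroup G) (hK : K ≤ A) {F : Subgroup G} (hF : F ≤ E) :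
    (Nat.card K).Coprime (Nat.card F) := by
  haveI := Fact.mk h.prime
  haveI : Fact (Nat.Prime 2) := ⟨Nat.prime_two⟩
  obtain ⟨i, hi⟩ := IsPGroup.iff_card.mp (h.isPGroupA.to_le hK)
  obtain ⟨j, hj⟩ := IsPGroup.iff_card.mp (h.sp.isPGroup.to_le hF)
  rw [hi, hj]
  exact (Nat.coprime_two_right.mpr h.odd).pow i j

theorem z_mem_piece {B : Subgroup G} (hB : B ≤ A) : z ∈ piece E B :=
  Subgroup.mem_inf.mpr ⟨h.sp.mem, fun b hb => (h.commute_z (hB hb)).eq⟩

theorem A_normalizes_piece {B : Subgroup G} (hB : B ≤ A) :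
    A ≤ Subgroup.normalizer (piece E B : Set G) :=
  Coprime.le_normalizer_inf_of_le h.AE (Coprime.le_normalizer_centralizer fun _ ha =>
    Subgroup.centralizer_le_normalizer _ fun _ hb => h.commA (hB hb) ha)

theorem pieces_commute {B B' : Subgroup G} (hB : B ∈ planes z E A q) (hB' : B' ∈ planes z E A q)
    (hne : B ≠ B') : ∀ f ∈ piece E B, ∀ g ∈ piece E B', Commute f g := by
  obtain ⟨hBA, hBi, -⟩ := hB
  obtain ⟨hB'A, hB'i, -⟩ := hB'
  have hsup : B ⊔ B' = A := by
    have hle : B ⊔ B' ≤ A := sup_le hBA hB'A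
    have hm := Subgroup.relIndex_mul_relIndex B (B ⊔ B') A le_sup_left hle
    rw [hBi] at hm
    rcases (Nat.dvd_prime h.prime).mp (Dvd.intro_left _ hm) with e | e
    · exact le_antisymm hle (Subgroup.relIndex_eq_one.mp e)
    · exfalso
      rw [e] at hm
      have h1 : B.relIndex (B ⊔ B') = 1 :=
        Nat.eq_of_mul_eq_mul_right h.prime.pos (hm.trans (one_mul q).symm)
      have hle' : B' ≤ B := le_sup_right.trans (Subgroup.relIndex_eq_one.mp h1)
      have hmm := Subgroup.relIndex_mul_relIndex B' B A hle' hBA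
      rw [hBi, hB'i] at hmm
      have h2 : B'.relIndex B = 1 :=
        Nat.eq_of_mul_eq_mul_right h.prime.pos (hmm.trans (one_mul q).symm)
      exact hne (le_antisymm (Subgroup.relIndex_eq_one.mp h2) hle')
  haveI := h.comm
  have hgen := Coprime.commutator_sup_centralizer (A := B') (K := piece E B)
    (hB'A.trans (h.A_normalizes_piece hBA)) (h.coprime B' hB'A inf_le_left)
    (Or.inl (Coprime.isSolvable_of_le hB'A (Coprime.isSolvable_of_isMulCommutative A)))
  have key : piece E B ≤ Subgroup.centralizer (piece E B' : Set G) := by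
    rw [← hgen]
    refine sup_le ?_ ?_
    · rw [Subgroup.commutator_le]
      intro f hf b hb g hg
      rw [commutatorElement_def]
      exact (commute_comm h.sp (Subgroup.mem_inf.mp hf).1 (Subgroup.mem_inf.mp hg).1
        ((Subgroup.mem_inf.mp hg).2 b hb).symm (h.commute_z (hB'A hb))).eq
    · intro e he g hg
      obtain ⟨he1, he2⟩ := Subgroup.mem_inf.mp he
      obtain ⟨heE, heB⟩ := Subgroup.mem_inf.mp he1
      have hA' : A ≤ Subgroup.centralizer ({e} : Set G) := by
        rw [← hsup]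
        exact sup_le (fun b hb => Subgroup.mem_centralizer_singleton_iff.mpr (heB b hb))
          (fun b hb => Subgroup.mem_centralizer_singleton_iff.mpr (he2 b hb))
      rcases h.fixed e heE (fun a ha => (Subgroup.mem_centralizer_singleton_iff.mp (hA' ha)).symm)
        with rfl | rfl
      · rw [mul_one, one_mul]
      · exact h.sp.central g (Subgroup.mem_inf.mp hg).1
  exact fun f hf g hg => (key hf g hg).symm

omit h in
theorem span_le (S : Set (Subgroup G)) : span E S ≤ E := iSup₂_le fun _ _ => inf_le_left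

omit h in
theorem piece_le_span {S : Set (Subgroup G)} {B : Subgroup G} (hB : B ∈ S) :
    piece E B ≤ span E S := le_iSup₂ (f := fun B (_ : B ∈ S) => piece E B) B hB

theorem span_commute {S T : Set (Subgroup G)} (hS : S ⊆ planes z E A q) (hT : T ⊆ planes z E A q)
    (hd : ∀ B ∈ S, B ∉ T) : ∀ a ∈ span E S, ∀ b ∈ span E T, Commute a b := by
  have h1 : span E S ≤ Subgroup.centralizer (span E T : Set G) := by
    refine iSup₂_le fun B hB => ?_
    rw [Subgroup.le_centralizer_iff]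
    refine iSup₂_le fun B' hB' f hf g hg => ?_
    exact h.pieces_commute (hS hB) (hT hB') (fun e => hd B hB (e ▸ hB')) g hg f hf
  exact fun a ha b hb => (h1 ha b hb).symm

theorem span_sup {S : Set (Subgroup G)} (hS : S ⊆ planes z E A q) :
    span E S ⊔ span E (planes z E A q \ S) = span E (planes z E A q) := by
  refine le_antisymm (sup_le (iSup₂_le fun B hB => piece_le_span (hS hB))
    (iSup₂_le fun B hB => piece_le_span hB.1)) (iSup₂_le fun B hB => ?_)
  by_cases hBS : B ∈ S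
  · exact (piece_le_span hBS).trans le_sup_left
  · exact (piece_le_span (show B ∈ planes z E A q \ S from ⟨hB, hBS⟩)).trans le_sup_right

theorem span_planes (hA : q ^ 2 ≤ Nat.card A) :
    (planes z E A q).Nonempty ∧ span E (planes z E A q) = E := by
  haveI := Fact.mk h.prime
  have hle : E ≤ span E (planes z E A q) ⊔ Subgroup.zpowers z := by
    refine Coprime.le_of_hyperplane_centralizer_le h.comm h.pow hA h.AE
      (h.coprime A le_rfl le_rfl) fun B hB hidx e he => ?_
    by_cases hez : e = 1 ∨ e = z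
    · rcases hez with rfl | rfl
      exacts [one_mem _, Subgroup.mem_sup_right (Subgroup.mem_zpowers _)]
    obtain ⟨i, hi⟩ := IsPGroup.iff_card.mp h.isPGroupA
    have hd : B.relIndex A ∣ q ^ i := hi ▸ Subgroup.relIndex_dvd_card B A
    obtain ⟨j, -, hj⟩ := (Nat.dvd_prime_pow h.prime).mp hd
    rcases j with _ | _ | j
    · exfalso
      rw [pow_zero, Subgroup.relIndex_eq_one] at hj
      exact hez (h.fixed e (Subgroup.mem_inf.mp he).1 fun a ha =>
        ((Subgroup.mem_inf.mp he).2 a (hj ha)).symm)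
    · rw [pow_one] at hj
      push Not at hez
      exact Subgroup.mem_sup_left
        (piece_le_span (show B ∈ planes z E A q from ⟨hB, hj, e, he, hez⟩) he)
    · exfalso
      have : q < B.relIndex A := by
        rw [hj]
        exact lt_self_pow₀ h.prime.one_lt (by omega)
      omega
  have hne : (planes z E A q).Nonempty := by
    by_contra hno
    rw [Set.not_nonempty_iff_eq_empty] at hno
    obtain ⟨e, he, he1, hez⟩ := h.sp.exists_ne
    have h1 := hle he
    have h0 : span E (planes z E A q) = ⊥ := by simp [span, hno]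
    rw [h0, bot_sup_eq, ← mem_powers_iff_mem_zpowers] at h1
    obtain ⟨k, rfl⟩ := h1
    rcases Nat.even_or_odd k with ⟨m, rfl⟩ | ⟨m, rfl⟩
    · exact he1 (by
        show z ^ (m + m) = 1
        rw [← two_mul, pow_mul, pow_two, h.sp.sq_z, one_pow])
    · exact hez (by
        show z ^ (2 * m + 1) = z
        rw [pow_succ, pow_mul, pow_two, h.sp.sq_z, one_pow, one_mul])
  refine ⟨hne, le_antisymm (span_le _) (hle.trans (sup_le le_rfl ?_))⟩
  obtain ⟨B, hB⟩ := hne
  exact Subgroup.zpowers_le.mpr (piece_le_span hB (h.z_mem_piece hB.1))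

/-- Both sides of a splitting are proper extraspecial pieces. -/
theorem split_sp {S T : Set (Subgroup G)} (hS : S ⊆ planes z E A q) (hT : T ⊆ planes z E A q)
    (hd : ∀ B ∈ S, B ∉ T) (hne : S.Nonempty) (hneT : T.Nonempty)
    (hsup : span E S ⊔ span E T = E) :
    Sp z (span E S) ∧ Nat.card (span E S) < Nat.card E := by
  obtain ⟨B, hB⟩ := hne
  have hcomm := h.span_commute hS hT hd
  refine ⟨h.sp.of_le (span_le S) (piece_le_span hB (h.z_mem_piece (hS hB).1)) (fun a ha hab => ?_)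
    ?_, ?_⟩
  · refine h.sp.center a (span_le S ha) fun b hb => ?_
    have hc : E ≤ Subgroup.centralizer ({a} : Set G) := by
      rw [← hsup]
      exact sup_le (fun b hb => Subgroup.mem_centralizer_singleton_iff.mpr (hab b hb).symm.eq)
        (fun b hb => Subgroup.mem_centralizer_singleton_iff.mpr (hcomm a ha b hb).symm.eq)
    exact (Subgroup.mem_centralizer_singleton_iff.mp (hc hb)).symm
  · obtain ⟨e, he, hne'⟩ := (hS hB).2.2
    exact ⟨e, piece_le_span hB he, hne'⟩
  · refine lt_of_le_of_ne (Nat.le_of_dvd Nat.card_pos (Subgroup.card_dvd_of_le (span_le S)))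
      fun e => ?_
    have hEq := Subgroup.eq_of_le_of_card_ge (span_le S) e.ge
    obtain ⟨B', hB'⟩ := hneT
    obtain ⟨f, hf, hf1, hfz⟩ := (hT hB').2.2
    rcases h.sp.center f (Subgroup.mem_inf.mp hf).1
      (fun b hb => (hcomm b (hEq.ge hb) f (piece_le_span hB' hf)).symm) with e | e
    exacts [hf1 e, hfz e]

theorem conj_planes {x : G} (hx : x ∈ X) {B : Subgroup G} (hB : B ∈ planes z E A q) :
    conjSub x B ∈ planes z E A q ∧ ∀ e ∈ piece E B, x * e * x⁻¹ ∈ piece E (conjSub x B) := by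
  obtain ⟨hBA, hBi, e, he, he1, hez⟩ := hB
  have hAx : conjSub x A = A := by
    ext g
    rw [mem_conjSub]
    exact ((Subgroup.mem_normalizer_iff''.mp (h.XA hx)) g).symm
  have hmove : ∀ e ∈ piece E B, x * e * x⁻¹ ∈ piece E (conjSub x B) := by
    intro e he
    refine Subgroup.mem_inf.mpr ⟨(Subgroup.mem_normalizer_iff.mp (h.XE hx) e).mp
      (Subgroup.mem_inf.mp he).1, fun b hb => ?_⟩
    have h1 := (Subgroup.mem_inf.mp he).2 _ (mem_conjSub.mp hb)
    rw [show b * (x * e * x⁻¹) = x * ((x⁻¹ * b * x) * e) * x⁻¹ by group, h1]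
    group
  refine ⟨⟨hAx ▸ Subgroup.map_mono hBA, ?_, x * e * x⁻¹, hmove e he, fun e' =>
    he1 (conj_eq_one_iff.mp e'), fun e' => hez ?_⟩, hmove⟩
  · nth_rw 1 [← hAx]
    rw [conjSub, conjSub, Subgroup.relIndex_map_map_of_injective _ _ (MulAut.conj x).injective]
    exact hBi
  · exact mul_left_cancel (mul_right_cancel (e'.trans (h.sp.conj_z (h.XE hx)).symm))

theorem span_normalizer {X₁ : Subgroup G} (hX₁ : X₁ ≤ X) {S : Set (Subgroup G)}
    (hS : S ⊆ planes z E A q) (hstab : ∀ x ∈ X₁, ∀ B ∈ S, conjSub x B ∈ S) :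
    X₁ ≤ Subgroup.normalizer (span E S : Set G) := fun x hx => by
  refine Subgroup.mem_normalizer_fintype fun g hg => ?_
  have hle : span E S ≤ (span E S).comap (MulAut.conj x).toMonoidHom :=
    iSup₂_le fun B hB e he => piece_le_span (hstab x hx B hB)
      ((h.conj_planes (hX₁ hx) (hS hB)).2 e he)
  exact hle hg

theorem restrict {X₁ : Subgroup G} (hX₁ : X₁ ≤ X) {S : Set (Subgroup G)}
    (hS : S ⊆ planes z E A q) (hstab : ∀ x ∈ X₁, ∀ B ∈ S, conjSub x B ∈ S)
    (hsp : Sp z (span E S)) : Ab z (span E S) X₁ A q where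
  sp := hsp
  prime := h.prime
  odd := h.odd
  two := h.two.to_le hX₁
  comm := h.comm
  pow := h.pow
  AE := fun a ha => Subgroup.mem_normalizer_fintype fun g hg => by
    have hle : span E S ≤ (span E S).comap (MulAut.conj a).toMonoidHom :=
      iSup₂_le fun B hB e he => piece_le_span hB
        ((Subgroup.mem_normalizer_iff.mp (h.A_normalizes_piece (hS hB).1 ha) e).mp he)
    exact hle hg
  XE := h.span_normalizer hX₁ hS hstab
  XA := hX₁.trans h.XA
  disj := eq_bot_iff.mpr ((inf_le_inf (span_le S) (sup_le_sup_left hX₁ A)).trans h.disj.le)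
  fixed := fun e he => h.fixed e (span_le S he)

theorem disj_X : E ⊓ X = ⊥ :=
  eq_bot_iff.mpr ((inf_le_inf_left E le_sup_right).trans h.disj.le)

theorem fpf_extn {a : G} (ha : a ∈ A) (ha1 : a ≠ 1)
    (hXa : X ≤ Subgroup.normalizer ((Subgroup.zpowers a : Subgroup G) : Set G))
    (hfix : ∀ e ∈ E, Commute e a → ∀ b ∈ A, Commute e b) : ∃ η, Extn z E X η := by
  refine Fpf.exists_extn (a := a) (q := q) ⟨h.sp, h.prime, h.odd, h.pow a ha, ha1, h.AE ha,
    fun e he hea => h.fixed e he (hfix e he hea), h.two, h.XE, hXa, ?_⟩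
  exact eq_bot_iff.mpr ((inf_le_inf_left E
    (sup_le_sup_right (Subgroup.zpowers_le.mpr ha) X)).trans h.disj.le)

/-- A single piece: reduce to an element of prime order. -/
theorem single (B₀ : Subgroup G) (hB : planes z E A q = {B₀})
    (hspan : span E (planes z E A q) = E) : ∃ η, Extn z E X η := by
  haveI := h.comm
  haveI := Fact.mk h.prime
  have hB₀ : B₀ ∈ planes z E A q := hB ▸ Set.mem_singleton B₀
  have hcent : ∀ e ∈ E, ∀ b ∈ B₀, Commute e b := by
    intro e he b hb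
    rw [← hspan, hB] at he
    have h1 : span E {B₀} ≤ piece E B₀ := iSup₂_le fun B hB => by
      rw [Set.mem_singleton_iff] at hB; rw [hB]
    exact ((Subgroup.mem_inf.mp (h1 he)).2 b hb).symm
  have hXB : X ≤ Subgroup.normalizer (B₀ : Set G) := fun x hx => by
    refine mem_normalizer_of_conjSub ?_
    have := (h.conj_planes hx hB₀).1
    rwa [hB, Set.mem_singleton_iff] at this
  obtain ⟨hBA, hBi, -⟩ := hB₀
  obtain ⟨a₀, ha₀, ha₀B⟩ : ∃ a ∈ A, a ∉ B₀ := by
    by_contra hno
    push Not at hno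
    rw [Subgroup.relIndex_eq_one.mpr (fun a ha => hno a ha)] at hBi
    exact h.prime.one_lt.ne hBi
  have hinf : B₀ ⊓ Subgroup.zpowers a₀ = ⊥ := by
    rw [eq_bot_iff]
    intro g hg
    rw [Subgroup.mem_bot]
    by_contra hg1
    obtain ⟨hgB, hg0⟩ := Subgroup.mem_inf.mp hg
    haveI : Fact (Nat.card (Subgroup.zpowers a₀)).Prime := ⟨by
      rw [Nat.card_zpowers, orderOf_eq_prime (h.pow a₀ ha₀) fun e => ha₀B (e ▸ one_mem B₀)]
      exact h.prime⟩
    rcases (B₀.subgroupOf (Subgroup.zpowers a₀)).eq_bot_or_eq_top_of_prime_card with e | e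
    · have : (⟨g, hg0⟩ : Subgroup.zpowers a₀) ∈ B₀.subgroupOf (Subgroup.zpowers a₀) := hgB
      rw [e, Subgroup.mem_bot] at this
      exact hg1 (congrArg Subtype.val this)
    · exact ha₀B (Subgroup.subgroupOf_eq_top.mp e (Subgroup.mem_zpowers a₀))
  have hn : Subgroup.zpowers a₀ ≤ Subgroup.normalizer (B₀ : Set G) := Subgroup.zpowers_le.mpr
    (Subgroup.centralizer_le_normalizer _ fun b hb => (h.commA (hBA hb) ha₀).eq)
  have hsup : B₀ ⊔ Subgroup.zpowers a₀ = A := by
    refine le_antisymm (sup_le hBA (Subgroup.zpowers_le.mpr ha₀)) ?_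
    have hm := Subgroup.relIndex_mul_relIndex B₀ (B₀ ⊔ Subgroup.zpowers a₀) A le_sup_left
      (sup_le hBA (Subgroup.zpowers_le.mpr ha₀))
    rw [hBi] at hm
    rcases (Nat.dvd_prime h.prime).mp (Dvd.intro_left _ hm) with e | e
    · exact Subgroup.relIndex_eq_one.mp e
    · rw [e] at hm
      have h1 : B₀.relIndex (B₀ ⊔ Subgroup.zpowers a₀) = 1 :=
        Nat.eq_of_mul_eq_mul_right h.prime.pos (hm.trans (one_mul q).symm)
      exact absurd ((Subgroup.relIndex_eq_one.mp h1)
        (Subgroup.mem_sup_right (Subgroup.mem_zpowers a₀))) ha₀B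
  have hcop : (Nat.card X).Coprime (Nat.card A) := by
    haveI : Fact (Nat.Prime 2) := ⟨Nat.prime_two⟩
    obtain ⟨i, hi⟩ := IsPGroup.iff_card.mp h.two
    obtain ⟨j, hj⟩ := IsPGroup.iff_card.mp h.isPGroupA
    rw [hi, hj]
    exact (Nat.coprime_two_left.mpr h.odd).pow i j
  obtain ⟨W, hWA, hXW, hBW, hBWA⟩ := Coprime.exists_invariant_complement h.XA hcop hBA hXB
    (Subgroup.zpowers_le.mpr ha₀) hinf hsup
  have hWn : W ≤ Subgroup.normalizer (B₀ : Set G) := fun w hw =>
    Subgroup.centralizer_le_normalizer _ fun b hb => (h.commA (hBA hb) (hWA hw)).eq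
  have hWc : Nat.card W = q := by
    have h1 := Coprime.card_sup_of_normalizer hWn hBW
    have h2 := Coprime.card_sup_of_normalizer hn hinf
    rw [hBWA] at h1
    rw [hsup, Nat.card_zpowers,
      orderOf_eq_prime (h.pow a₀ ha₀) fun e => ha₀B (e ▸ one_mem B₀)] at h2
    exact Nat.eq_of_mul_eq_mul_left Nat.card_pos (h1.symm.trans h2)
  haveI : Fact (Nat.card W).Prime := ⟨hWc ▸ h.prime⟩
  obtain ⟨a, haW, ha1⟩ : ∃ a ∈ W, a ≠ 1 := by
    by_contra hno
    push Not at hno
    have hb : W = ⊥ := eq_bot_iff.mpr fun w hw => Subgroup.mem_bot.mpr (hno w hw)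
    rw [hb, Subgroup.card_bot] at hWc
    exact h.prime.one_lt.ne hWc
  have hWa : Subgroup.zpowers a = W := Subgroup.eq_of_le_of_card_ge (Subgroup.zpowers_le.mpr haW)
    (by rw [hWc, Nat.card_zpowers, orderOf_eq_prime (h.pow a (hWA haW)) ha1])
  refine h.fpf_extn (hWA haW) ha1 (hWa.symm ▸ hXW) fun e he hea b hb => ?_
  have hle : A ≤ Subgroup.centralizer ({e} : Set G) := by
    rw [← hBWA, ← hWa]
    exact sup_le (fun c hc => Subgroup.mem_centralizer_singleton_iff.mpr (hcent e he c hc).symm.eq)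
      (Subgroup.zpowers_le.mpr (Subgroup.mem_centralizer_singleton_iff.mpr hea.symm.eq))
  exact (Subgroup.mem_centralizer_singleton_iff.mp (hle hb)).symm

end Ab

/-- The faithful character extends. -/
theorem Ab.exists_extn : ∀ (n : ℕ) {z : G} {E X A : Subgroup G} {q : ℕ}, Ab z E X A q →
    Nat.card E = n → ∃ η, Extn z E X η := by
  classical
  intro n
  induction n using Nat.strong_induction_on with
  | _ n ih =>
  intro z E X A q h hn
  haveI := Fact.mk h.prime
  haveI : Fact (Nat.Prime 2) := ⟨Nat.prime_two⟩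
  by_cases hA : q ^ 2 ≤ Nat.card A
  swap
  · obtain ⟨a, ha, ha1⟩ : ∃ a ∈ A, a ≠ 1 := by
      by_contra hno
      push Not at hno
      obtain ⟨e, he, he1, hez⟩ := h.sp.exists_ne
      rcases h.fixed e he (fun a ha => by rw [hno a ha]; exact Commute.one_right e) with e' | e'
      exacts [he1 e', hez e']
    obtain ⟨i, hi⟩ := IsPGroup.iff_card.mp h.isPGroupA
    have hi1 : i ≤ 1 := by
      by_contra hlt
      exact hA (hi ▸ Nat.pow_le_pow_right h.prime.pos (by omega))
    have hAa : Subgroup.zpowers a = A :=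
      Subgroup.eq_of_le_of_card_ge (Subgroup.zpowers_le.mpr ha) (by
        rw [hi, Nat.card_zpowers, orderOf_eq_prime (h.pow a ha) ha1]
        calc q ^ i ≤ q ^ 1 := Nat.pow_le_pow_right h.prime.pos hi1
          _ = q := pow_one q)
    refine h.fpf_extn ha ha1 (hAa.symm ▸ h.XA) fun e he hea b hb => ?_
    rw [← hAa] at hb
    obtain ⟨k, rfl⟩ := Subgroup.mem_zpowers_iff.mp hb
    exact hea.zpow_right k
  obtain ⟨⟨B₀, hB₀⟩, hspan⟩ := h.span_planes hA
  set P := planes z E A q with hP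
  -- a splitting into two stable sets
  have split : ∀ (X₁ : Subgroup G) (S : Set (Subgroup G)), X₁ ≤ X → S ⊆ P → S.Nonempty →
      (P \ S).Nonempty → (∀ x ∈ X₁, ∀ B ∈ S, conjSub x B ∈ S) → ∃ η, Extn z (span E S) X₁ η := by
    intro X₁ S hX₁ hS hne hneT hstab
    obtain ⟨hsp, hlt⟩ := h.split_sp hS Set.sdiff_subset (fun B hB hB' => hB'.2 hB) hne hneT
      (by rw [h.span_sup hS, hspan])
    exact ih _ (hn ▸ hlt) (h.restrict hX₁ hS hstab hsp) rfl
  have compl_stab : ∀ (X₁ : Subgroup G) (S : Set (Subgroup G)), X₁ ≤ X →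
      (∀ x ∈ X₁, ∀ B ∈ S, conjSub x B ∈ S) → ∀ x ∈ X₁, ∀ B ∈ P \ S, conjSub x B ∈ P \ S := by
    intro X₁ S hX₁ hstab x hx B hB
    refine ⟨(h.conj_planes (hX₁ hx) hB.1).1, fun hmem => hB.2 ?_⟩
    have := hstab x⁻¹ (inv_mem hx) _ hmem
    rwa [← conjSub_mul, inv_mul_cancel, conjSub_one] at this
  let O : Set (Subgroup G) := {B | ∃ x ∈ X, conjSub x B₀ = B}
  have hO : O ⊆ P := by
    rintro _ ⟨x, hx, rfl⟩
    exact (h.conj_planes hx hB₀).1
  have hOstab : ∀ x ∈ X, ∀ B ∈ O, conjSub x B ∈ O := by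
    rintro x hx _ ⟨y, hy, rfl⟩
    exact ⟨x * y, mul_mem hx hy, conjSub_mul x y B₀⟩
  by_cases hOP : (P \ O).Nonempty
  · have hne : O.Nonempty := ⟨B₀, 1, one_mem X, conjSub_one B₀⟩
    obtain ⟨η₁, e₁⟩ := split X O le_rfl hO hne hOP hOstab
    obtain ⟨η₂, e₂⟩ := split X (P \ O) le_rfl Set.sdiff_subset hOP
      (by rwa [Set.sdiff_sdiff_cancel_left hO]) (compl_stab X O le_rfl hOstab)
    have hsup : span E O ⊔ span E (P \ O) = E := by rw [h.span_sup hO, hspan]
    obtain ⟨hsp₁, -⟩ := h.split_sp hO Set.sdiff_subset (fun B hB hB' => hB'.2 hB) hne hOP hsup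
    obtain ⟨hsp₂, -⟩ := h.split_sp Set.sdiff_subset hO (fun B hB hB' => hB.2 hB') hOP hne
      (by rw [sup_comm]; exact hsup)
    obtain ⟨η, hη, -⟩ := exists_prod h.sp hsp₁ hsp₂
      (h.span_commute hO Set.sdiff_subset fun B hB hB' => hB'.2 hB) hsup
      (h.span_normalizer le_rfl hO hOstab)
      (h.span_normalizer le_rfl Set.sdiff_subset (compl_stab X O le_rfl hOstab)) h.disj_X e₁ e₂
    exact ⟨η, hη⟩
  rw [Set.not_nonempty_iff_eq_empty, Set.diff_eq_empty] at hOP
  by_cases hone : P = {B₀}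
  · exact h.single B₀ hone hspan
  -- a transitive action: an index-two step
  have hstab : (Subgroup.normalizer (B₀ : Set G)).subgroupOf X ≠ ⊤ := by
    intro htop
    refine hone (Set.eq_singleton_iff_unique_mem.mpr ⟨hB₀, fun B hB => ?_⟩)
    obtain ⟨x, hx, rfl⟩ := hOP hB
    ext g
    rw [mem_conjSub]
    exact ((Subgroup.mem_normalizer_iff''.mp (Subgroup.subgroupOf_eq_top.mp htop hx)) g).symm
  obtain ⟨M, hM, hHM⟩ := CfsgLib.Kulakoff.exists_index_prime h.two hstab
  haveI := Subgroup.normal_of_index_eq_two hM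
  set X₀ := M.map X.subtype with hX₀
  have hX₀X : X₀ ≤ X := Subgroup.map_subtype_le _
  have hmem : ∀ x : X, (x : G) ∈ X₀ ↔ x ∈ M := fun x =>
    ⟨fun ⟨y, hy, e⟩ => (Subtype.ext e : y = x) ▸ hy, fun hx => ⟨x, hx, rfl⟩⟩
  obtain ⟨s, hs⟩ : ∃ s : X, s ∉ M := by
    by_contra hall
    push Not at hall
    rw [(eq_top_iff.mpr fun g _ => hall g : M = ⊤), Subgroup.index_top] at hM
    omega
  let S : Set (Subgroup G) := {B | ∃ x ∈ X₀, conjSub x B₀ = B}
  have hS : S ⊆ P := by
    rintro _ ⟨x, hx, rfl⟩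
    exact (h.conj_planes (hX₀X hx) hB₀).1
  have hSstab : ∀ x ∈ X₀, ∀ B ∈ S, conjSub x B ∈ S := by
    rintro x hx _ ⟨y, hy, rfl⟩
    exact ⟨x * y, mul_mem hx hy, conjSub_mul x y B₀⟩
  have hnotS : ∀ x : X, x ∉ M → conjSub (x : G) B₀ ∉ S := by
    rintro x hx ⟨y, hy, e⟩
    obtain ⟨y, hy, rfl⟩ := hy
    have h1 : ((y⁻¹ * x : X) : G) ∈ Subgroup.normalizer (B₀ : Set G) := by
      refine mem_normalizer_of_conjSub ?_
      rw [Subgroup.coe_mul, Subgroup.coe_inv, conjSub_mul, ← e, ← conjSub_mul,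
        Subgroup.coe_subtype, inv_mul_cancel, conjSub_one]
    exact hx (by simpa using mul_mem hy (hHM (Subgroup.mem_subgroupOf.mpr h1)))
  have hneS : S.Nonempty := ⟨B₀, 1, one_mem _, conjSub_one B₀⟩
  have hneT : (P \ S).Nonempty := ⟨conjSub (s : G) B₀, (h.conj_planes s.2 hB₀).1, hnotS s hs⟩
  obtain ⟨η₁, e₁⟩ := split X₀ S hX₀X hS hneS hneT hSstab
  have hsup : span E S ⊔ span E (P \ S) = E := by rw [h.span_sup hS, hspan]
  obtain ⟨hsp₁, -⟩ := h.split_sp hS Set.sdiff_subset (fun B hB hB' => hB'.2 hB) hneS hneT hsup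
  obtain ⟨hsp₂, -⟩ := h.split_sp Set.sdiff_subset hS (fun B hB hB' => hB.2 hB') hneT hneS
    (by rw [sup_comm]; exact hsup)
  have hswap₁ : ∀ e ∈ span E S, (s : G) * e * (s : G)⁻¹ ∈ span E (P \ S) := by
    have hle : span E S ≤ (span E (P \ S)).comap (MulAut.conj (s : G)).toMonoidHom := by
      refine iSup₂_le fun B hB e he => ?_
      have hc := h.conj_planes s.2 (hS hB)
      obtain ⟨x, ⟨x, hx, rfl⟩, rfl⟩ := hB
      refine piece_le_span (show conjSub (s : G) _ ∈ P \ S from ⟨hc.1, ?_⟩) (hc.2 e he)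
      rw [← conjSub_mul]
      exact hnotS (s * x) fun hsx => hs (by simpa using mul_mem hsx (inv_mem hx))
    exact fun e he => hle he
  have hswap₂ : ∀ e ∈ span E (P \ S), (s : G) * e * (s : G)⁻¹ ∈ span E S := by
    have hle : span E (P \ S) ≤ (span E S).comap (MulAut.conj (s : G)).toMonoidHom := by
      refine iSup₂_le fun B hB e he => ?_
      have hc := h.conj_planes s.2 hB.1
      obtain ⟨x, hx, rfl⟩ := hOP hB.1
      refine piece_le_span (show conjSub (s : G) _ ∈ S from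
        ⟨(s : G) * x, (hmem (s * ⟨x, hx⟩)).mpr ?_, conjSub_mul _ _ _⟩) (hc.2 e he)
      refine (Subgroup.mul_mem_iff_of_index_two hM).mpr ⟨fun h' => absurd h' hs, fun hxM => ?_⟩
      exact absurd ⟨x, (hmem ⟨x, hx⟩).mpr hxM, rfl⟩ hB.2
    exact fun e he => hle he
  have hcard : Nat.card (span E (P \ S)) = Nat.card (span E S) := by
    have key : ∀ {K L : Subgroup G}, (∀ e ∈ K, (s : G) * e * (s : G)⁻¹ ∈ L) →
        Nat.card K ≤ Nat.card L := fun {K L} hKL =>
      Nat.card_le_card_of_injective (fun e : K => (⟨_, hKL e e.2⟩ : L)) fun a b e =>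
        Subtype.ext (mul_left_cancel (mul_right_cancel (congrArg Subtype.val e)))
    exact le_antisymm (key hswap₂) (key hswap₁)
  have hsn : (s : G) ∈ Subgroup.normalizer (X₀ : Set G) :=
    Subgroup.le_normalizer_map X.subtype
      ⟨s, by rw [Subgroup.normalizer_eq_top]; trivial, rfl⟩
  have hz := h.sp.conj_z (h.XE s.2)
  have hsX₀ : ∀ x ∈ X₀, (s : G) * x * (s : G)⁻¹ ∈ X₀ := fun x hx =>
    (Subgroup.mem_normalizer_iff.mp hsn x).mp hx
  obtain ⟨η₀, hη₀, hval⟩ := exists_prod h.sp hsp₁ hsp₂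
    (h.span_commute hS Set.sdiff_subset fun B hB hB' => hB'.2 hB) hsup
    (h.span_normalizer hX₀X hS hSstab)
    (h.span_normalizer hX₀X Set.sdiff_subset (compl_stab X₀ S hX₀X hSstab))
    (eq_bot_iff.mpr ((inf_le_inf_left E hX₀X).trans h.disj_X.le))
    e₁ (e₁.conjugate hsp₁ hz hcard hswap₂ hsX₀)
  have hsq : (s : G) * s ∈ X₀ := (hmem (s * s)).mpr
    ((Subgroup.mul_mem_iff_of_index_two hM).mpr Iff.rfl)
  obtain ⟨η, hη, -⟩ := hη₀.extend_step h.sp hX₀X h.XE s.2 (fun x hx => by
      by_cases hxM : (⟨x, hx⟩ : X) ∈ M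
      · exact Subgroup.mem_sup_left ((hmem ⟨x, hx⟩).mpr hxM)
      · have h1 : (⟨x, hx⟩ : X) * s⁻¹ ∈ M :=
          (Subgroup.mul_mem_iff_of_index_two hM).mpr (by simp [hxM, hs])
        rw [show x = x * (s : G)⁻¹ * s by group]
        exact mul_mem (Subgroup.mem_sup_left ((hmem (⟨x, hx⟩ * s⁻¹)).mpr h1))
          (Subgroup.mem_sup_right (Subgroup.mem_zpowers _))) hsn fun g hg => by
    obtain ⟨e, he, x, hx, rfl⟩ := mem_sup (hX₀X.trans h.XE) hg
    have hcm := h.span_commute hS (Set.sdiff_subset (t := S)) fun B hB hB' => hB'.2 hB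
    obtain ⟨a, ha, b, hb, rfl⟩ := mem_sup
      (fun b hb => Subgroup.centralizer_le_normalizer _ fun a ha => hcm a ha b hb)
      (hsup.symm ▸ he : e ∈ span E S ⊔ span E (P \ S))
    rw [hval a ha b hb x hx,
      show (s : G) * (a * b * x) * (s : G)⁻¹ =
        ((s : G) * b * (s : G)⁻¹) * ((s : G) * a * (s : G)⁻¹) * ((s : G) * x * (s : G)⁻¹) by
        rw [(hcm a ha b hb).eq]; group,
      hval _ (hswap₂ b hb) _ (hswap₁ a ha) _ (hsX₀ x hx)]
    rw [show (s : G) * b * (s : G)⁻¹ * ((s : G) * x * (s : G)⁻¹) = s * (b * x) * (s : G)⁻¹ by group,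
      show (s : G) * ((s : G) * a * (s : G)⁻¹ * ((s : G) * x * (s : G)⁻¹)) * (s : G)⁻¹ =
        ((s : G) * s) * (a * x) * ((s : G) * s)⁻¹ by group,
      e₁.classFun (mul_mem (Subgroup.mem_sup_left ha) (Subgroup.mem_sup_right hx))
        (Subgroup.mem_sup_right hsq), mul_comm]
  exact ⟨η, hη⟩

end Setting

end CfsgLib.SpinExt
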