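import Cfsg.Agent.Lib.SpinExt.Step
import Cfsg.Agent.Lib.Char.GlaubermanFpf
import Cfsg.Agent.Lib.Coprime.Generation
import Cfsg.Agent.Lib.Frobenius.Kulakoff

/-!
# An element of prime order acting without fixed points

If `a` of odd prime order `q` fixes only the centre of `E`, then the faithful character extends to
`E ⊔ X` for every two-group `X` normalizing `⟨a⟩`: on the centralizer of `a` the extension is singled
out by constant values on the cosets of `a`, hence it is invariant, and the rest is a cyclic step.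
-/

set_option autoImplicit false
set_option linter.unusedSectionVars false
set_option linter.style.haveILetI false

namespace CfsgLib.SpinExt

open Cfsg
open scoped ComplexConjugate CfsgLib.Char

variable {G : Type*} [Group G] [Finite G]

/-- The hypotheses at an element of prime order. -/
structure Fpf (z : G) (E X : Subgroup G) (a : G) (q : ℕ) : Prop where
  sp : Sp z E
  prime : q.Prime
  odd : Odd q
  pow : a ^ q = 1
  ne_one : a ≠ 1
  aE : a ∈ Subgroup.normalizer (E : Set G)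
  fixed : ∀ e ∈ E, Commute e a → e = 1 ∨ e = z
  two : IsPGroup 2 X
  XE : X ≤ Subgroup.normalizer (E : Set G)
  Xa : X ≤ Subgroup.normalizer ((Subgroup.zpowers a : Subgroup G) : Set G)
  disj : E ⊓ (Subgroup.zpowers a ⊔ X) = ⊥

/-- An extension with constant values on the cosets of `a`. -/
def Norm (z : G) (E C : Subgroup G) (a : G) (q : ℕ) (η : G → ℂ) : Prop :=
  Extn z E (Subgroup.zpowers a ⊔ C) η ∧
    ∀ i : ℕ, 0 < i → i < q → ‖η (a ^ i)‖ = 1 ∧ ∀ c ∈ C, η (c * a ^ i) = η (a ^ i)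

namespace Fpf

variable {z : G} {E X : Subgroup G} {a : G} {q : ℕ} (h : Fpf z E X a q)

include h

theorem orderOf_a : orderOf a = q := by
  haveI := Fact.mk h.prime
  exact orderOf_eq_prime h.pow h.ne_one

theorem sup_le_normalizer {C : Subgroup G} (hC : C ≤ X) :
    Subgroup.zpowers a ⊔ C ≤ Subgroup.normalizer (E : Set G) :=
  sup_le (Subgroup.zpowers_le.mpr h.aE) (hC.trans h.XE)

theorem eq_one_of_mem {c : G} (hc : c ∈ X) (hca : c ∈ E ⊔ Subgroup.zpowers a) : c = 1 := by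
  obtain ⟨e, he, b, hb, rfl⟩ := mem_sup (Subgroup.zpowers_le.mpr h.aE) hca
  have he' : e ∈ E ⊓ (Subgroup.zpowers a ⊔ X) := Subgroup.mem_inf.mpr ⟨he, by
    rw [show e = e * b * b⁻¹ by group]
    exact mul_mem (Subgroup.mem_sup_right hc) (inv_mem (Subgroup.mem_sup_left hb))⟩
  rw [h.disj, Subgroup.mem_bot] at he'
  subst he'
  rw [one_mul] at hc ⊢
  haveI : Fact (Nat.Prime 2) := ⟨Nat.prime_two⟩
  obtain ⟨k, hk⟩ := IsPGroup.iff_orderOf.mp h.two ⟨b, hc⟩
  rw [Subgroup.orderOf_mk] at hk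
  have h1 : orderOf b ∣ q := by
    have := (Subgroup.zpowers a).orderOf_dvd_natCard hb
    rwa [Nat.card_zpowers, h.orderOf_a] at this
  exact orderOf_eq_one_iff.mp
    (Nat.eq_one_of_dvd_coprimes ((Nat.coprime_two_left.mpr h.odd).pow_left k) (hk ▸ dvd_rfl) h1)

/-- Rescale an extension to make it constant on the cosets of `a`. -/
theorem normalise {C : Subgroup G} (hCX : C ≤ X) (hCa : ∀ c ∈ C, Commute c a) {η : G → ℂ}
    (hη : Extn z E (Subgroup.zpowers a ⊔ C) η) (hlin : C = ⊥ ∨ ‖η a‖ = 1) :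
    ∃ η', Norm z E C a q η' := by
  classical
  haveI : Fact (Nat.Prime 2) := ⟨Nat.prime_two⟩
  set A := Subgroup.zpowers a with hA
  set Γ := E ⊔ (A ⊔ C) with hΓ
  have hEC : E ⊔ C ≤ Γ := sup_le_sup_left le_sup_right E
  have haΓ : a ∈ Γ := Subgroup.mem_sup_right (Subgroup.mem_sup_left (Subgroup.mem_zpowers a))
  have hAC : A ≤ Subgroup.normalizer (C : Set G) := Subgroup.zpowers_le.mpr
    (Subgroup.centralizer_le_normalizer _ fun c hc => hCa c hc)
  have hCA : C ≤ Subgroup.normalizer (A : Set G) := hCX.trans h.Xa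
  have hCE : C ≤ Subgroup.normalizer (E : Set G) := hCX.trans h.XE
  set N := (E ⊔ C).subgroupOf Γ with hN
  haveI : N.Normal := Subgroup.normal_subgroupOf_of_le_normalizer
    (sup_le ((le_sup_left).trans Subgroup.le_normalizer)
      (sup_le (Coprime.le_normalizer_sup_of_le (Subgroup.zpowers_le.mpr h.aE) hAC)
        ((le_sup_right).trans Subgroup.le_normalizer)))
  let s : Γ := ⟨a, haΓ⟩
  have hord : orderOf s = q := by rw [Subgroup.orderOf_mk]; exact h.orderOf_a
  have htop : N ⊔ Subgroup.zpowers s = ⊤ := by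
    have h1 : Γ ≤ (N ⊔ Subgroup.zpowers s).map Γ.subtype := by
      have hN' : E ⊔ C ≤ (N ⊔ Subgroup.zpowers s).map Γ.subtype := fun g hg =>
        ⟨⟨g, hEC hg⟩, Subgroup.mem_sup_left hg, rfl⟩
      refine sup_le ((le_sup_left).trans hN') (sup_le ?_ ((le_sup_right).trans hN'))
      exact Subgroup.zpowers_le.mpr ⟨s, Subgroup.mem_sup_right (Subgroup.mem_zpowers s), rfl⟩
    rw [eq_top_iff]
    intro p _
    obtain ⟨r, hr, e⟩ := h1 p.2
    rwa [show p = r from Subtype.ext e.symm]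
  have hN2 : IsPGroup 2 N :=
    (h.sp.isPGroup_sup (h.two.to_le hCX) hCE).comap_of_injective Γ.subtype Γ.subtype_injective
  have hcop : (Nat.card N).Coprime (orderOf s) := by
    obtain ⟨k, hk⟩ := IsPGroup.iff_card.mp hN2
    rw [hk, hord]
    exact (Nat.coprime_two_left.mpr h.odd).pow_left k
  haveI := Fintype.ofFinite Γ
  haveI := Fintype.ofFinite N
  set θ : N → ℂ := fun n => η ((n : Γ) : G) with hθdef
  have hθ : IsIrrCharacter N θ :=
    CfsgLib.Blocks.isIrrCharacter_comp_of_surjective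
      ((hη.restrict (le_sup_right : C ≤ A ⊔ C)).irr h.sp).1
      (Subgroup.subgroupOfEquivOfLe hEC).toMonoidHom (Subgroup.subgroupOfEquivOfLe hEC).surjective
  obtain ⟨ηc, hηc⟩ := CfsgLib.Char.Canonical.exists_canonical htop hcop hθ
    (CfsgLib.Char.conjBy_restrict N (CfsgLib.Char.isClassFunction_of_isCharacter hη.1) s)
  obtain ⟨μ, hμN, hμ⟩ := CfsgLib.Char.extensions_differ N hθ (hη.irr h.sp).1 hηc.1
    (fun n => rfl) hηc.2.1
  set Cc : Subgroup Γ := N ⊓ Subgroup.centralizer ({s} : Set Γ) with hCc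
  have hC1 : ∀ c, c ∈ Cc ↔ c ∈ N ∧ c * s = s * c := fun c => by
    rw [hCc, Subgroup.mem_inf, Subgroup.mem_centralizer_singleton_iff]
  have hCi : ∀ i, 0 < i → i < orderOf s → ∀ c, c ∈ Cc ↔ c ∈ N ∧ c * s ^ i = s ^ i * c := by
    intro i h0 hi c
    rw [hC1]
    refine and_congr_right fun _ => ⟨fun e => (Commute.pow_right e i).eq, fun e => ?_⟩
    obtain ⟨m, hm⟩ := exists_pow_eq_self_of_coprime (x := s) (n := i) (by
      rw [hord] at hi ⊢
      exact (h.prime.coprime_iff_not_dvd.mpr (Nat.not_dvd_of_pos_of_lt h0 hi)).symm)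
    have h2 := (Commute.pow_right (show Commute c (s ^ i) from e) m).eq
    rwa [hm] at h2
  haveI := Fintype.ofFinite Cc
  obtain ⟨β, ε₀, hε₀, hβ⟩ := CfsgLib.Char.Glauberman.exists_sign htop hcop hC1 hθ hηc
  have hb1 : (β : Cc → ℂ) 1 = 1 := by
    rcases hlin with hC0 | hn
    · refine CfsgLib.Char.degree_one_of_comm (fun x y => ?_) β
      have hval : ∀ w : Cc, ((w : Γ) : G) = 1 ∨ ((w : Γ) : G) = z := fun w => by
        have hw := (hC1 w).mp w.2
        refine h.fixed _ ?_ (congrArg Subtype.val hw.2)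
        have h3 : ((w : Γ) : G) ∈ E ⊔ C := hw.1
        rwa [hC0, sup_bot_eq] at h3
      refine Subtype.ext (Subtype.ext ?_)
      show ((x : Γ) : G) * ((y : Γ) : G) = ((y : Γ) : G) * ((x : Γ) : G)
      rcases hval x with e | e <;> rcases hval y with e' | e' <;> simp [e, e']
    · obtain ⟨d, -, hd⟩ := CfsgLib.Char.exists_nat_degree_irr β.2
      have h1 := hβ 1
      rw [OneMemClass.coe_one, one_mul, hd, congrFun hμ s] at h1
      have h2 := congrArg (‖·‖) h1
      simp only [norm_mul, Complex.norm_natCast] at h2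
      have hμ1 : ‖(μ s : ℂ)‖ = 1 := by
        refine Complex.norm_eq_one_of_pow_eq_one (n := orderOf s) ?_ (orderOf_pos s).ne'
        rw [← Units.val_pow_eq_pow_val, ← map_pow, pow_orderOf_eq_one, map_one, Units.val_one]
      have hε1 : ‖(ε₀ : ℂ)‖ = 1 := by rcases hε₀ with rfl | rfl <;> simp
      rw [hμ1, hn, hε1, one_mul, one_mul] at h2
      rw [hd, show d = 1 by exact_mod_cast h2.symm, Nat.cast_one]
  obtain ⟨ε, z', hε, hz', -, hval, -⟩ := CfsgLib.Char.Glauberman.fpf_values hcop hCi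
    (by rw [hord]; exact h.prime.two_le) hθ hηc.1 hηc.2.1 β hε₀ hβ
  -- the twist
  set M := (E ⊔ A).subgroupOf Γ with hM
  have hEA : E ⊔ A ≤ Γ := sup_le_sup_left le_sup_left E
  haveI : M.Normal := Subgroup.normal_subgroupOf_of_le_normalizer
    (sup_le ((le_sup_left).trans Subgroup.le_normalizer)
      (sup_le ((le_sup_right).trans Subgroup.le_normalizer)
        (Coprime.le_normalizer_sup_of_le hCE hCA)))
  let iC : C →* Γ := Subgroup.inclusion ((le_sup_right : C ≤ E ⊔ C).trans hEC)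
  let cC : C →* Cc := iC.codRestrict Cc fun c => (hC1 _).mpr
    ⟨(Subgroup.mem_sup_right c.2 : (c : G) ∈ E ⊔ C), Subtype.ext (hCa c c.2).eq⟩
  let φ : C →* Γ ⧸ M := (QuotientGroup.mk' M).comp iC
  have hφ : Function.Bijective φ := by
    refine ⟨(injective_iff_map_eq_one _).mpr fun c hc => ?_, fun x => ?_⟩
    · exact Subtype.ext (h.eq_one_of_mem (hCX c.2) ((QuotientGroup.eq_one_iff (iC c)).mp hc))
    · obtain ⟨g, rfl⟩ := QuotientGroup.mk'_surjective M x
      obtain ⟨e, he, y, hy, hg⟩ := mem_sup (h.sup_le_normalizer hCX) g.2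
      obtain ⟨b, hb, c, hc, rfl⟩ := mem_sup hCA hy
      refine ⟨⟨c, hc⟩, QuotientGroup.eq.mpr ?_⟩
      show c⁻¹ * (g : G) ∈ E ⊔ A
      rw [hg, show c⁻¹ * (e * (b * c)) = (c⁻¹ * e * c⁻¹⁻¹) * (c⁻¹ * b * c⁻¹⁻¹) by group]
      exact mul_mem
        (Subgroup.mem_sup_left ((Subgroup.mem_normalizer_iff.mp (hCE (inv_mem hc)) e).mp he))
        (Subgroup.mem_sup_right ((Subgroup.mem_normalizer_iff.mp (hCA (inv_mem hc)) b).mp hb))
  let β' : C →* ℂˣ :=
    (CfsgLib.Char.linearHom (CfsgLib.Char.isCharacter_of_isIrr β.2) hb1).comp cC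
  let ν : Γ →* ℂˣ :=
    (β'⁻¹.comp (MulEquiv.ofBijective φ hφ).symm.toMonoidHom).comp (QuotientGroup.mk' M)
  have hνM : ∀ g : Γ, g ∈ M → ν g = 1 := fun g hg => by
    show β'⁻¹ ((MulEquiv.ofBijective φ hφ).symm (QuotientGroup.mk' M g)) = 1
    rw [show QuotientGroup.mk' M g = 1 from (QuotientGroup.eq_one_iff g).mpr hg, map_one, map_one]
  have hνC : ∀ c : C, ν (iC c) = (β' c)⁻¹ := fun c => by
    show β'⁻¹ ((MulEquiv.ofBijective φ hφ).symm (φ c)) = _
    rw [show φ c = MulEquiv.ofBijective φ hφ c from rfl, MulEquiv.symm_apply_apply,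
      MonoidHom.inv_apply]
  let η' : G → ℂ := fun g => if hg : g ∈ Γ then (ν ⟨g, hg⟩ : ℂ) * ηc ⟨g, hg⟩ else 0
  have hη' : ∀ g : Γ, η' g = (ν g : ℂ) * ηc g := fun g => by
    show (if hg : (g : G) ∈ Γ then (ν ⟨g, hg⟩ : ℂ) * ηc ⟨g, hg⟩ else 0) = _
    rw [dif_pos g.2]
  have hkey : ∀ i, 0 < i → i < q → ∀ c : C, η' ((c : G) * a ^ i) = (ε : ℂ) * (z' : ℂ) ^ i := by
    intro i h0 hi c
    rw [show (c : G) * a ^ i = ((iC c * s ^ i : Γ) : G) by simp [iC, s], hη', map_mul, hνC,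
      map_pow, hνM s (show a ∈ E ⊔ A from Subgroup.mem_sup_right (Subgroup.mem_zpowers a)),
      one_pow, mul_one, show iC c = ((cC c : Cc) : Γ) from rfl, hval i h0 (hord ▸ hi) (cC c)]
    have h2 : ((β' c : ℂˣ) : ℂ) = (β : Cc → ℂ) (cC c) := rfl
    rw [← h2, Units.val_inv_eq_inv_val]
    field_simp
  refine ⟨η', ⟨?_, fun e he => ?_⟩, fun i h0 hi => ?_⟩
  · rw [show (fun g : Γ => η' g) = fun g => (ν g : ℂ) * ηc g from funext hη']
    exact CfsgLib.Char.isCharacter_mul (CfsgLib.Char.isCharacter_monoidHom ν)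
      (CfsgLib.Char.isCharacter_of_isIrr hηc.1)
  · have := hη' ⟨e, Subgroup.mem_sup_left he⟩
    rw [hνM _ (show e ∈ E ⊔ A from Subgroup.mem_sup_left he), Units.val_one, one_mul] at this
    rw [this, ← hη.2 e he]
    exact hηc.2.1 ⟨⟨e, Subgroup.mem_sup_left he⟩, (Subgroup.mem_sup_left he : e ∈ E ⊔ C)⟩
  · have h1 : η' (a ^ i) = (ε : ℂ) * (z' : ℂ) ^ i := by
      have := hkey i h0 hi 1
      rwa [OneMemClass.coe_one, one_mul] at this
    refine ⟨?_, fun c hc => (hkey i h0 hi ⟨c, hc⟩).trans h1.symm⟩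
    rw [h1, norm_mul, norm_pow]
    rcases hε with rfl | rfl <;> rcases hz' with rfl | rfl <;> simp

/-- A normal extension is invariant. -/
theorem invariant {C : Subgroup G} (hCX : C ≤ X) {η : G → ℂ} (hη : Norm z E C a q η) {x : G}
    (hx : x ∈ X) (hxC : x ∈ Subgroup.normalizer (C : Set G)) :
    (∀ g ∈ E ⊔ C, η (x * g * x⁻¹) = η g) ∧
      (Commute x a → ∀ g ∈ E ⊔ (Subgroup.zpowers a ⊔ C), η (x * g * x⁻¹) = η g) := by
  classical
  set A := Subgroup.zpowers a with hA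
  set Γ := E ⊔ (A ⊔ C) with hΓ
  have hxE := h.XE hx
  have hnA : x ∈ Subgroup.normalizer (A : Set G) := h.Xa hx
  have hn : Extn z E (A ⊔ C) (fun g => η (x * g * x⁻¹)) :=
    hη.1.conjugate h.sp (h.sp.conj_z hxE) rfl
      (fun e he => (Subgroup.mem_normalizer_iff.mp hxE e).mp he)
      (fun y hy => (Subgroup.mem_normalizer_iff.mp
        (Coprime.le_normalizer_sup_of_le (Subgroup.zpowers_le.mpr hnA)
          (Subgroup.zpowers_le.mpr hxC) (Subgroup.mem_zpowers x)) y).mp hy)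
  obtain ⟨ν, hνE, hν⟩ := hη.1.exists_ratio h.sp (h.sup_le_normalizer hCX) hn
  have haΓ : a ∈ Γ := Subgroup.mem_sup_right (Subgroup.mem_sup_left (Subgroup.mem_zpowers a))
  obtain ⟨j, hj0, hjq, hj⟩ : ∃ j, 0 < j ∧ j < q ∧ x * a * x⁻¹ = a ^ j := by
    have h1 : x * a * x⁻¹ ∈ A :=
      (Subgroup.mem_normalizer_iff.mp hnA a).mp (Subgroup.mem_zpowers a)
    rw [hA, ← mem_powers_iff_mem_zpowers, (isOfFinOrder_of_finite a).mem_powers_iff_mem_range_orderOf,
      Finset.mem_image] at h1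
    obtain ⟨j, hj, hje⟩ := h1
    rw [Finset.mem_range, h.orderOf_a] at hj
    refine ⟨j, Nat.pos_of_ne_zero ?_, hj, hje.symm⟩
    rintro rfl
    rw [pow_zero] at hje
    exact h.ne_one (conj_eq_one_iff.mp hje.symm)
  obtain ⟨hna, hca⟩ := hη.2 1 one_pos h.prime.one_lt
  rw [pow_one] at hna hca
  have ha0 : η a ≠ 0 := fun e => by rw [e, norm_zero] at hna; exact zero_ne_one hna
  have hνC : ∀ g : Γ, (g : G) ∈ C → ν g = 1 := by
    intro g hg
    have e1 : η (x * ((g : G) * a) * x⁻¹) = η (x * a * x⁻¹) := by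
      rw [show x * ((g : G) * a) * x⁻¹ = (x * g * x⁻¹) * (x * a * x⁻¹) by group, hj]
      exact (hη.2 j hj0 hjq).2 _ ((Subgroup.mem_normalizer_iff.mp hxC _).mp hg)
    have e2 := hν (g * ⟨a, haΓ⟩)
    have e3 := hν ⟨a, haΓ⟩
    simp only [Subgroup.coe_mul] at e2 e3
    rw [e1, e3, map_mul, Units.val_mul, hca _ hg] at e2
    have e4 : (ν g : ℂ) * ((ν ⟨a, haΓ⟩ : ℂ) * η a) = 1 * ((ν ⟨a, haΓ⟩ : ℂ) * η a) := by
      rw [← mul_assoc, one_mul]; exact e2.symm
    exact Units.ext (mul_right_cancel₀ (mul_ne_zero (Units.ne_zero _) ha0) e4)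
  let T : Subgroup G := (ν.ker).map Γ.subtype
  have hT : ∀ g ∈ T, η (x * g * x⁻¹) = η g := by
    rintro _ ⟨g, hg, rfl⟩
    have e := hν g
    rw [MonoidHom.mem_ker.mp hg, Units.val_one, one_mul] at e
    exact e
  have hET : E ⊔ C ≤ T := sup_le
    (fun e he => ⟨⟨e, Subgroup.mem_sup_left he⟩, hνE _ he, rfl⟩)
    (fun c hc => ⟨⟨c, Subgroup.mem_sup_right (Subgroup.mem_sup_right hc)⟩, hνC _ hc, rfl⟩)
  refine ⟨fun g hg => hT g (hET hg), fun hxa g hg => hT g ?_⟩
  refine (sup_le ((le_sup_left).trans hET) (sup_le ?_ ((le_sup_right).trans hET)) : Γ ≤ T) hg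
  refine Subgroup.zpowers_le.mpr ⟨⟨a, haΓ⟩, MonoidHom.mem_ker.mpr (Units.ext ?_), rfl⟩
  have e3 := hν ⟨a, haΓ⟩
  simp only [] at e3
  rw [show x * a * x⁻¹ = a by rw [hxa.eq, mul_inv_cancel_right]] at e3
  rw [Units.val_one]
  exact mul_right_cancel₀ ha0 (e3.symm.trans (one_mul _).symm)

/-- Normal extensions exist on subgroups centralizing `a`. -/
theorem exists_norm : ∀ (n : ℕ) (C : Subgroup G), Nat.card C = n → C ≤ X →
    (∀ c ∈ C, Commute c a) → ∃ η, Norm z E C a q η := by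
  classical
  haveI : Fact (Nat.Prime 2) := ⟨Nat.prime_two⟩
  intro n
  induction n using Nat.strong_induction_on with
  | _ n ih =>
  intro C hn hCX hCa
  set A := Subgroup.zpowers a with hA
  by_cases hC : C = ⊥
  · have h0 : Extn z E ⊥ (spin z E) := by
      refine ⟨?_, fun e _ => rfl⟩
      exact CfsgLib.Char.isCharacter_comp (Subgroup.inclusion (sup_bot_eq E).le)
        (CfsgLib.Char.isCharacter_of_isIrr h.sp.spin_irr.1)
    obtain ⟨η, hη, -⟩ := h0.extend_step h.sp (X := A ⊔ C) bot_le (h.sup_le_normalizer hCX)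
      (Subgroup.mem_sup_left (Subgroup.mem_zpowers a))
      (by rw [hC, sup_bot_eq, bot_sup_eq]) (Subgroup.centralizer_le_normalizer _ fun y hy => by
        rw [SetLike.mem_coe, Subgroup.mem_bot] at hy
        rw [hy, one_mul, mul_one])
      (fun g _ => h.sp.spin_conj (h.sp.conj_z h.aE) rfl g)
    exact h.normalise hCX hCa hη (Or.inl hC)
  haveI : Nontrivial C := (Subgroup.nontrivial_iff_ne_bot C).mpr hC
  obtain ⟨M, hM, -⟩ := CfsgLib.Kulakoff.exists_index_prime (h.two.to_le hCX)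
    (bot_ne_top (α := Subgroup C))
  haveI := Subgroup.normal_of_index_eq_two hM
  set C₀ := M.map C.subtype with hC₀
  have hC₀C : C₀ ≤ C := Subgroup.map_subtype_le _
  obtain ⟨s, hs⟩ : ∃ s : C, s ∉ M := by
    by_contra hall
    push Not at hall
    rw [(eq_top_iff.mpr fun g _ => hall g : M = ⊤), Subgroup.index_top] at hM
    omega
  have hlt : Nat.card C₀ < n := by
    rw [hC₀, Subgroup.card_map_of_injective C.subtype_injective, ← hn, ← M.card_mul_index, hM]
    have := Nat.card_pos (α := M)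
    omega
  obtain ⟨η₀, hη₀⟩ := ih _ hlt C₀ rfl (hC₀C.trans hCX) fun c hc => hCa c (hC₀C hc)
  have hsn : (s : G) ∈ Subgroup.normalizer (C₀ : Set G) :=
    Subgroup.le_normalizer_map C.subtype
      ⟨s, by rw [Subgroup.normalizer_eq_top]; trivial, rfl⟩
  have hsA : (s : G) ∈ Subgroup.normalizer (A : Set G) := h.Xa (hCX s.2)
  have hgen : A ⊔ C ≤ (A ⊔ C₀) ⊔ Subgroup.zpowers (s : G) := by
    refine sup_le (le_sup_left.trans le_sup_left) fun c hc => ?_
    by_cases hcM : (⟨c, hc⟩ : C) ∈ M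
    · exact Subgroup.mem_sup_left (Subgroup.mem_sup_right ⟨_, hcM, rfl⟩)
    · have h1 : (⟨c, hc⟩ : C) * s⁻¹ ∈ M :=
        (Subgroup.mul_mem_iff_of_index_two hM).mpr (by simp [hcM, hs])
      rw [show c = c * (s : G)⁻¹ * s by group]
      exact mul_mem (Subgroup.mem_sup_left (Subgroup.mem_sup_right ⟨_, h1, rfl⟩))
        (Subgroup.mem_sup_right (Subgroup.mem_zpowers _))
  obtain ⟨η, hη, hagree⟩ := hη₀.1.extend_step h.sp (sup_le_sup_left hC₀C A)
    (h.sup_le_normalizer hCX) (Subgroup.mem_sup_right s.2) hgen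
    (Coprime.le_normalizer_sup_of_le (Subgroup.zpowers_le.mpr hsA) (Subgroup.zpowers_le.mpr hsn)
      (Subgroup.mem_zpowers _))
    ((h.invariant (hC₀C.trans hCX) hη₀ (hCX s.2) hsn).2 (hCa _ s.2))
  refine h.normalise hCX hCa hη (Or.inr ?_)
  rw [hagree a (Subgroup.mem_sup_right (Subgroup.mem_sup_left (Subgroup.mem_zpowers a)))]
  have := (hη₀.2 1 one_pos h.prime.one_lt).1
  rwa [pow_one] at this

/-- The faithful character extends to `E ⊔ X`. -/
theorem exists_extn : ∃ η, Extn z E X η := by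
  classical
  set A := Subgroup.zpowers a with hA
  set C := X ⊓ Subgroup.centralizer (A : Set G) with hC
  obtain ⟨η, hη⟩ := h.exists_norm _ C rfl inf_le_left
    fun c hc => ((Subgroup.mem_inf.mp hc).2 a (Subgroup.mem_zpowers a)).symm
  haveI : Fact (Nat.card A).Prime := ⟨by rw [hA, Nat.card_zpowers, h.orderOf_a]; exact h.prime⟩
  haveI : IsCyclic (MulAut A) := (IsCyclic.mulAutMulEquiv A).isCyclic.mpr inferInstance
  let ψ : X →* MulAut A := Coprime.conjAct h.Xa
  obtain ⟨⟨y, hy⟩, hgen⟩ := IsCyclic.exists_generator (α := ψ.range)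
  obtain ⟨s, rfl⟩ := hy
  have hle : X ≤ C ⊔ Subgroup.zpowers (s : G) := by
    intro x hx
    obtain ⟨k, hk⟩ := Subgroup.mem_zpowers_iff.mp (hgen ⟨ψ ⟨x, hx⟩, ⟨x, hx⟩, rfl⟩)
    have hk' : ψ (s ^ k) = ψ ⟨x, hx⟩ := by
      rw [map_zpow]; exact congrArg Subtype.val hk
    have h1 : ψ (⟨x, hx⟩ * (s ^ k)⁻¹) = 1 := by rw [map_mul, map_inv, hk', mul_inv_cancel]
    have h2 : x * ((s : G) ^ k)⁻¹ ∈ C := by
      refine Subgroup.mem_inf.mpr ⟨mul_mem hx (inv_mem (zpow_mem s.2 k)), fun b hb => ?_⟩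
      have h3 := Coprime.coe_conjAct h.Xa (⟨x, hx⟩ * (s ^ k)⁻¹) ⟨b, hb⟩
      rw [h1] at h3
      simp only [MulAut.one_apply, Subgroup.coe_mul, Subgroup.coe_inv, Subgroup.coe_zpow] at h3
      exact eq_mul_inv_iff_mul_eq.mp h3
    rw [show x = x * ((s : G) ^ k)⁻¹ * (s : G) ^ k by group]
    exact mul_mem (Subgroup.mem_sup_left h2)
      (Subgroup.mem_sup_right (zpow_mem (Subgroup.mem_zpowers _) k))
  have hsC : (s : G) ∈ Subgroup.normalizer (C : Set G) :=
    Coprime.le_normalizer_inf_of_le Subgroup.le_normalizer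
      (Coprime.le_normalizer_centralizer h.Xa) s.2
  obtain ⟨η', hη', -⟩ := (hη.1.restrict (le_sup_right : C ≤ A ⊔ C)).extend_step h.sp inf_le_left
    h.XE s.2 hle hsC (h.invariant inf_le_left hη s.2 hsC).1
  exact ⟨η', hη'⟩

end Fpf

end CfsgLib.SpinExt
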