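import Cfsg.Agent.Lib.SpinExt.Abelian
import Cfsg.Agent.Lib.RealDegree.Main
import Cfsg.Agent.Lib.OddOrder.Solvable

/-!
# An odd normal subgroup of the complement fixing only the centre

Induction on the order of `E`: a minimal normal subgroup `W` of the complement inside `K` splits `E`
into `C_E(W)` and `[E, W]`; the first factor is handled in the quotient by its kernel.
-/

set_option autoImplicit false
set_option linter.unusedSectionVars false
set_option linter.style.haveILetI false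

universe u

namespace CfsgLib.SpinExt

open Cfsg
open scoped commutatorElement

variable {G : Type u} [Group G]

theorem Sp.subgroupOf {z : G} {E M : Subgroup G} (h : Sp z E) (hle : E ≤ M) :
    Sp (⟨z, hle h.mem⟩ : M) (E.subgroupOf M) where
  mem := h.mem
  ne_one e := h.ne_one (congrArg Subtype.val e)
  sq_z := Subtype.ext h.sq_z
  central a ha := Subtype.ext (h.central a ha)
  comm a ha b hb := by
    rcases h.comm a ha b hb with e | e
    · exact Or.inl (Subtype.ext e)
    · exact Or.inr (Subtype.ext e)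
  sq a ha := by
    rcases h.sq a ha with e | e
    · exact Or.inl (Subtype.ext e)
    · exact Or.inr (Subtype.ext e)
  center a ha hb := by
    rcases h.center a ha (fun b hb' => congrArg Subtype.val (hb ⟨b, hle hb'⟩ hb')) with e | e
    · exact Or.inl (Subtype.ext e)
    · exact Or.inr (Subtype.ext e)
  exists_ne := by
    obtain ⟨a, ha, h1, h2⟩ := h.exists_ne
    exact ⟨⟨a, hle ha⟩, ha, fun e => h1 (congrArg Subtype.val e),
      fun e => h2 (congrArg Subtype.val e)⟩

theorem spin_map [Finite G] {Q : Type*} [Group Q] [Finite Q] {z : G} {E : Subgroup G} (h : Sp z E)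
    (f : G →* Q) (hf : Set.InjOn f E) {e : G} (he : e ∈ E) :
    spin (f z) (E.map f) (f e) = spin z E e := by
  classical
  have h1 : f e = 1 ↔ e = 1 := ⟨fun e' => hf he (one_mem E) (by rw [e', map_one]),
    fun e' => by rw [e', map_one]⟩
  have h2 : f e = f z ↔ e = z := ⟨fun e' => hf he h.mem e', fun e' => by rw [e']⟩
  have hc : Nat.card (E.map f) = Nat.card E :=
    (Nat.card_congr (Equiv.ofBijective (f.subgroupMap E)
      ⟨fun a b e' => Subtype.ext (hf a.2 b.2 (congrArg Subtype.val e')),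
        f.subgroupMap_surjective E⟩)).symm
  simp only [spin, deg, hc]
  exact if_congr h1 rfl (if_congr h2 rfl rfl)

theorem spin_subgroupOf {z : G} {E M : Subgroup G} (h : Sp z E) (hle : E ≤ M) {e : M} :
    spin (⟨z, hle h.mem⟩ : M) (E.subgroupOf M) e = spin z E (e : G) := by
  classical
  have h1 : e = 1 ↔ (e : G) = 1 := Subtype.ext_iff
  have h2 : e = ⟨z, hle h.mem⟩ ↔ (e : G) = z := Subtype.ext_iff
  simp only [spin, deg, Nat.card_congr (Subgroup.subgroupOfEquivOfLe hle).toEquiv]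
  exact if_congr h1 rfl (if_congr h2 rfl rfl)

theorem exists_extn_of_solvable : ∀ (n : ℕ) (G : Type u) [Group G] [Finite G] (z : G)
    (E H K : Subgroup G), Nat.card E = n → Sp z E → E.Normal → E ⊓ H = ⊥ →
    (∀ g ∈ H, (∀ e ∈ E, g * e = e * g) → g = 1) → K ≤ H →
    (∀ g ∈ H, ∀ k ∈ K, g * k * g⁻¹ ∈ K) → Odd (Nat.card K) →
    (∀ e ∈ E, (∀ k ∈ K, Commute e k) → e = 1 ∨ e = z) →
    ∀ X ≤ H, IsPGroup 2 X → ∃ η, Extn z E X η := by
  classical
  intro n
  induction n using Nat.strong_induction_on with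
  | _ n ih =>
  intro G _ _ z E H K hn hsp hEn hd hfaith hKH hKn hKodd hfix X hXH hX
  haveI := hEn
  have hK1 : K ≠ ⊥ := by
    rintro rfl
    obtain ⟨e, he, he1, hez⟩ := hsp.exists_ne
    rcases hfix e he (fun k hk => by rw [Subgroup.mem_bot] at hk; rw [hk]; exact Commute.one_right e)
      with e' | e'
    exacts [he1 e', hez e']
  haveI : (K.subgroupOf H).Normal := ⟨fun k hk g => hKn g g.2 k hk⟩
  have hKsolv : Group.IsSolvable K := OddOrder.odd_order_solvable hKodd
  obtain ⟨W', ⟨hW'n, hW'K, hW'0⟩, hW'min⟩ := Set.Finite.exists_minimalFor id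
    {M : Subgroup H | M.Normal ∧ M ≤ K.subgroupOf H ∧ M ≠ ⊥} (Set.toFinite _)
    ⟨K.subgroupOf H, inferInstance, le_rfl, fun e => hK1 (by
      have := congrArg (Subgroup.map H.subtype) e
      rwa [Subgroup.map_bot, Subgroup.subgroupOf_map_subtype, inf_eq_left.mpr hKH] at this)⟩
  haveI := hW'n
  haveI : Group.IsSolvable ↥(K.subgroupOf H) :=
    haveI := hKsolv
    Group.isSolvable_of_surjective (f := (Subgroup.subgroupOfEquivOfLe hKH).symm.toMonoidHom)
      (Subgroup.subgroupOfEquivOfLe hKH).symm.surjective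
  obtain ⟨hcommW, r, hr, hrW⟩ := RealDegree.minimal_solvable hW'0 (fun M hM hMW =>
    or_iff_not_imp_left.mpr fun h =>
      le_antisymm hMW (hW'min (j := M) ⟨hM, hMW.trans hW'K, h⟩ hMW))
    (Coprime.isSolvable_of_le hW'K inferInstance)
  set W := W'.map H.subtype with hW
  have hWK : W ≤ K := by
    rintro _ ⟨w, hw, rfl⟩
    exact hW'K hw
  have hWH : W ≤ H := hWK.trans hKH
  have hWn : H ≤ Subgroup.normalizer (W : Set G) := fun g hg => by
    refine Subgroup.le_normalizer_map H.subtype ⟨⟨g, hg⟩, ?_, rfl⟩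
    rw [Subgroup.normalizer_eq_top]
    trivial
  haveI hWc : IsMulCommutative W := ⟨⟨by
    rintro ⟨_, a, ha, rfl⟩ ⟨_, b, hb, rfl⟩
    have e := congrArg Subtype.val (hcommW a ha b hb).eq
    exact Subtype.ext e⟩⟩
  have hWr : ∀ w ∈ W, w ^ r = 1 := by
    rintro _ ⟨w, hw, rfl⟩
    rw [← map_pow, hrW w hw, map_one]
  obtain ⟨w₀, hw₀, hw₀1⟩ : ∃ w ∈ W, w ≠ 1 := by
    by_contra hno
    push Not at hno
    exact hW'0 (eq_bot_iff.mpr fun w hw => Subgroup.mem_bot.mpr
      (Subtype.ext (hno _ ⟨w, hw, rfl⟩)))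
  haveI := Fact.mk hr
  have hrodd : Odd r :=
    hKodd.of_dvd_nat (orderOf_eq_prime (hWr w₀ hw₀) hw₀1 ▸ K.orderOf_dvd_natCard (hWK hw₀))
  have hWE : W ≤ Subgroup.normalizer (E : Set G) := Subgroup.le_normalizer_of_normal
  have hzW : ∀ b ∈ W, Commute b z := fun b hb => mul_inv_eq_iff_eq_mul.mp (hsp.conj_z (hWE hb))
  set E₁ := E ⊓ Subgroup.centralizer (W : Set G) with hE₁
  set E₂ := ⁅E, W⁆ ⊔ Subgroup.zpowers z with hE₂
  have hcomE : ⁅E, W⁆ ≤ E := Subgroup.commutator_le_left E W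
  have hE₂E : E₂ ≤ E := sup_le hcomE (Subgroup.zpowers_le.mpr hsp.mem)
  have hz₁ : z ∈ E₁ := Subgroup.mem_inf.mpr ⟨hsp.mem, fun b hb => (hzW b hb).eq⟩
  have hz₂ : z ∈ E₂ := Subgroup.mem_sup_right (Subgroup.mem_zpowers z)
  have hcomm : ∀ a ∈ E₁, ∀ b ∈ E₂, Commute a b := by
    have h1 : E₂ ≤ Subgroup.centralizer (E₁ : Set G) := by
      refine sup_le ?_ (Subgroup.zpowers_le.mpr fun a ha =>
        (hsp.central a (Subgroup.mem_inf.mp ha).1).eq)
      rw [Subgroup.commutator_le]
      intro f hf b hb g hg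
      rw [commutatorElement_def]
      exact (commute_comm hsp hf (Subgroup.mem_inf.mp hg).1
        ((Subgroup.mem_inf.mp hg).2 b hb).symm (hzW b hb)).eq
    exact fun a ha b hb => h1 hb a ha
  have hWcop : (Nat.card W).Coprime (Nat.card E) := by
    haveI : Fact (Nat.Prime 2) := ⟨Nat.prime_two⟩
    obtain ⟨j, hj⟩ := IsPGroup.iff_card.mp hsp.isPGroup
    rw [hj]
    exact (Nat.coprime_two_right.mpr
      (hKodd.of_dvd_nat (Subgroup.card_dvd_of_le hWK))).pow_right j
  have hsup₀ : ⁅E, W⁆ ⊔ E₁ = E := Coprime.commutator_sup_centralizer hWE hWcop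
    (Or.inl (Coprime.isSolvable_of_isMulCommutative W))
  have hsup : E₁ ⊔ E₂ = E := le_antisymm (sup_le inf_le_left hE₂E)
    (hsup₀.ge.trans (sup_le (le_sup_left.trans le_sup_right) le_sup_left))
  have hcentral : ∀ a, a ∈ E → (∀ b ∈ E₁, Commute a b) → (∀ b ∈ E₂, Commute a b) → a = 1 ∨ a = z := by
    intro a ha h1 h2
    refine hsp.center a ha fun b hb => ?_
    have hle : E ≤ Subgroup.centralizer ({a} : Set G) := by
      rw [← hsup]
      exact sup_le (fun b hb => Subgroup.mem_centralizer_singleton_iff.mpr (h1 b hb).symm.eq)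
        (fun b hb => Subgroup.mem_centralizer_singleton_iff.mpr (h2 b hb).symm.eq)
    exact (Subgroup.mem_centralizer_singleton_iff.mp (hle hb)).symm
  have hne₁ : E₁ ≠ E := fun e => hw₀1 (hfaith w₀ (hWH hw₀) fun v hv =>
    ((Subgroup.mem_inf.mp (e.ge hv)).2 w₀ hw₀))
  have hsp₂ : Sp z E₂ := hsp.of_le hE₂E hz₂
    (fun a ha hab => hcentral a (hE₂E ha) (fun b hb => (hcomm b hb a ha).symm) hab) (by
    by_contra hno
    push Not at hno
    refine hne₁ (le_antisymm inf_le_left (hsup.ge.trans (sup_le le_rfl fun b hb => ?_)))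
    by_cases hb1 : b = 1
    · rw [hb1]; exact one_mem _
    · rw [hno b hb hb1]; exact hz₁)
  have hHE : H ≤ Subgroup.normalizer (E : Set G) := Subgroup.le_normalizer_of_normal
  have hH₁ : H ≤ Subgroup.normalizer (E₁ : Set G) :=
    Coprime.le_normalizer_inf_of_le hHE (Coprime.le_normalizer_centralizer hWn)
  have hH₂ : H ≤ Subgroup.normalizer (E₂ : Set G) := fun g hg => by
    refine Subgroup.mem_normalizer_fintype fun v hv => ?_
    have hle : E₂ ≤ E₂.comap (MulAut.conj g).toMonoidHom := by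
      refine sup_le ?_ (Subgroup.zpowers_le.mpr ?_)
      · rw [Subgroup.commutator_le]
        intro f hf b hb
        rw [Subgroup.mem_comap, map_commutatorElement]
        exact Subgroup.mem_sup_left (Subgroup.commutator_mem_commutator
          ((Subgroup.mem_normalizer_iff.mp (hHE hg) f).mp hf)
          ((Subgroup.mem_normalizer_iff.mp (hWn hg) b).mp hb))
      · show g * z * g⁻¹ ∈ E₂
        rw [hsp.conj_z (hHE hg)]
        exact hz₂
    exact hle hv
  have hAb : Ab z E₂ X W r :=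
    { sp := hsp₂
      prime := hr
      odd := hrodd
      two := hX
      comm := hWc
      pow := hWr
      AE := hWH.trans hH₂
      XE := hXH.trans hH₂
      XA := hXH.trans hWn
      disj := eq_bot_iff.mpr ((inf_le_inf hE₂E (sup_le hWH hXH)).trans hd.le)
      fixed := fun e he hea => hcentral e (hE₂E he)
        (fun b hb => (hcomm b hb e he).symm)
        (fun b hb => hcomm e (Subgroup.mem_inf.mpr ⟨hE₂E he, fun w hw => (hea w hw).symm.eq⟩) b hb) }
  obtain ⟨η₂, hη₂⟩ := Ab.exists_extn _ hAb rfl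
  by_cases hsmall : ∀ e ∈ E₁, e = 1 ∨ e = z
  · have hE : E₂ = E := le_antisymm hE₂E (hsup.ge.trans (sup_le (fun e he => by
      rcases hsmall e he with rfl | rfl
      exacts [one_mem _, hz₂]) le_rfl))
    exact ⟨η₂, hE ▸ hη₂⟩
  push Not at hsmall
  have hsp₁ : Sp z E₁ := hsp.of_le inf_le_left hz₁
    (fun a ha hab => hcentral a (Subgroup.mem_inf.mp ha).1 hab (fun b hb => hcomm a ha b hb))
    hsmall
  have hlt : Nat.card E₁ < n := by
    rw [← hn]
    exact lt_of_le_of_ne (Nat.le_of_dvd Nat.card_pos (Subgroup.card_dvd_of_le inf_le_left))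
      fun e => hne₁ (Subgroup.eq_of_le_of_card_ge inf_le_left e.ge)
  -- pass to the quotient by the kernel on the first factor
  set M := E₁ ⊔ H with hM
  set C₀ := H ⊓ Subgroup.centralizer (E₁ : Set G) with hC₀
  haveI : (C₀.subgroupOf M).Normal := Subgroup.normal_subgroupOf_of_le_normalizer (sup_le
    (fun e he => Subgroup.centralizer_le_normalizer _ fun c hc =>
      ((Subgroup.mem_inf.mp hc).2 e he).symm)
    (Coprime.le_normalizer_inf_of_le Subgroup.le_normalizer
      (Coprime.le_normalizer_centralizer hH₁)))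
  let f := QuotientGroup.mk' (C₀.subgroupOf M)
  have hf : Function.Surjective f := QuotientGroup.mk'_surjective _
  have hfeq : ∀ a b : M, f a = f b → (a : G)⁻¹ * b ∈ C₀ := fun a b e =>
    (QuotientGroup.eq.mp e : a⁻¹ * b ∈ C₀.subgroupOf M)
  have hEH : ∀ e : G, e ∈ E₁ → e ∈ H → e = 1 := fun e he heH => by
    have : e ∈ E ⊓ H := Subgroup.mem_inf.mpr ⟨(Subgroup.mem_inf.mp he).1, heH⟩
    rwa [hd, Subgroup.mem_bot] at this
  have hspM := hsp₁.subgroupOf (le_sup_left : E₁ ≤ M)
  have hinj : Set.InjOn f (E₁.subgroupOf M) := fun a ha b hb e => by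
    have h1 := hfeq a b e
    exact Subtype.ext (inv_mul_eq_one.mp
      (hEH _ (mul_mem (inv_mem ha) hb) (Subgroup.mem_inf.mp h1).1))
  have hspQ := hspM.map f hinj
  haveI : (E₁.subgroupOf M).Normal :=
    Subgroup.normal_subgroupOf_of_le_normalizer (sup_le Subgroup.le_normalizer hH₁)
  have hcommQ : ∀ a b : M, (a : G) ∈ E₁ → (b : G) ∈ H → f (b * a) = f (a * b) →
      (b : G) * a = a * b := by
    intro a b ha hb e
    have h1 := hfeq _ _ e
    have h2 : ((b * a : M) : G)⁻¹ * ((a * b : M) : G) ∈ E₁ := by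
      rw [Subgroup.coe_mul, Subgroup.coe_mul,
        show ((b : G) * a)⁻¹ * (a * b) = (a : G)⁻¹ * ((b : G)⁻¹ * a * (b : G)) by group]
      exact mul_mem (inv_mem ha) ((Subgroup.mem_normalizer_iff''.mp (hH₁ hb) _).mp ha)
    exact inv_mul_eq_one.mp (hEH _ h2 (Subgroup.mem_inf.mp h1).1)
  let X' := (X.subgroupOf M).map f
  obtain ⟨η, hη⟩ := ih _ (show Nat.card ((E₁.subgroupOf M).map f) < n from lt_of_le_of_lt
      ((Nat.le_of_dvd Nat.card_pos (Subgroup.card_map_dvd _ _)).trans
        (le_of_eq (Nat.card_congr (Subgroup.subgroupOfEquivOfLe (le_sup_left : E₁ ≤ M)).toEquiv)))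
      hlt)
    (M ⧸ C₀.subgroupOf M) _ ((E₁.subgroupOf M).map f) ((H.subgroupOf M).map f)
    ((K.subgroupOf M).map f) rfl hspQ (Subgroup.Normal.map inferInstance f hf)
    (by
      rw [eq_bot_iff]
      rintro x hx
      obtain ⟨⟨a, ha, rfl⟩, ⟨b, hb, hab⟩⟩ := Subgroup.mem_inf.mp hx
      rw [Subgroup.mem_bot]
      have h1 := hfeq a b hab.symm
      have h2 : (a : G) ∈ H := by
        rw [show (a : G) = (b : G) * ((a : G)⁻¹ * b)⁻¹ by group]
        exact mul_mem hb (inv_mem (Subgroup.mem_inf.mp h1).1)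
      rw [show a = 1 from Subtype.ext (hEH _ ha h2), map_one])
    (by
      rintro _ ⟨b, hb, rfl⟩ hcom
      refine (QuotientGroup.eq_one_iff b).mpr (Subgroup.mem_inf.mpr ⟨hb, fun a ha => ?_⟩)
      exact (hcommQ ⟨a, Subgroup.mem_sup_left ha⟩ b ha hb (by
        rw [map_mul, map_mul]
        exact hcom _ ⟨⟨a, Subgroup.mem_sup_left ha⟩, ha, rfl⟩)).symm)
    (Subgroup.map_mono (Subgroup.comap_mono hKH))
    (by
      rintro _ ⟨b, hb, rfl⟩ _ ⟨k, hk, rfl⟩
      exact ⟨b * k * b⁻¹, hKn b hb k hk, by rw [map_mul, map_mul, map_inv]⟩)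
    (hKodd.of_dvd_nat ((Subgroup.card_map_dvd _ _).trans
      (dvd_of_eq (Nat.card_congr
        (Subgroup.subgroupOfEquivOfLe (hKH.trans le_sup_right : K ≤ M)).toEquiv))))
    (by
      rintro _ ⟨a, ha, rfl⟩ hcom
      rcases hfix (a : G) (Subgroup.mem_inf.mp ha).1 (fun k hk =>
        (hcommQ a ⟨k, Subgroup.mem_sup_right (hKH hk)⟩ ha (hKH hk) (by
          rw [map_mul, map_mul]
          exact (hcom _ ⟨⟨k, Subgroup.mem_sup_right (hKH hk)⟩, hk, rfl⟩).symm.eq)).symm)
        with e | e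
      · exact Or.inl (by rw [show a = 1 from Subtype.ext e, map_one])
      · exact Or.inr (congrArg f (Subtype.ext e)))
    X' (Subgroup.map_mono (Subgroup.comap_mono hXH))
    ((hX.comap_of_injective M.subtype M.subtype_injective).map f)
  let η₁ : G → ℂ := fun g => if hg : g ∈ M then η (f ⟨g, hg⟩) else 0
  have hη₁ : Extn z E₁ X η₁ := by
    have hle : E₁ ⊔ X ≤ M := sup_le_sup_left hXH E₁
    have hle' : (E₁ ⊔ X).subgroupOf M ≤
        ((E₁.subgroupOf M).map f ⊔ X').comap f := by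
      rw [Subgroup.subgroupOf_sup le_sup_left (hXH.trans le_sup_right), ← Subgroup.map_le_iff_le_comap,
        Subgroup.map_sup]
    let g : ↥(E₁ ⊔ X) →* ↥((E₁.subgroupOf M).map f ⊔ X') :=
      (f.comp (Subgroup.inclusion hle)).codRestrict _ fun v => hle' (show (v : G) ∈ E₁ ⊔ X from v.2)
    refine ⟨?_, fun e he => ?_⟩
    · convert CfsgLib.Char.isCharacter_comp g hη.1 using 1
      funext v
      show (if hg : (v : G) ∈ M then η (f ⟨v, hg⟩) else 0) = _
      rw [dif_pos (hle v.2)]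
      rfl
    · show (if hg : e ∈ M then η (f ⟨e, hg⟩) else 0) = _
      rw [dif_pos (Subgroup.mem_sup_left he : e ∈ M)]
      exact (hη.2 _ ⟨_, he, rfl⟩).trans ((spin_map hspM f hinj he).trans (spin_subgroupOf hsp₁ _))
  obtain ⟨χ, hχ, -⟩ := exists_prod hsp hsp₁ hsp₂ hcomm hsup (hXH.trans hH₁) (hXH.trans hH₂)
    (eq_bot_iff.mpr ((inf_le_inf_left E hXH).trans hd.le)) hη₁ hη₂
  exact ⟨χ, hχ⟩

end CfsgLib.SpinExt
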