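import Cfsg.Agent.Lib.Char.Extraspecial
import Cfsg.Agent.Lib.Char.ExtendChar
import Cfsg.Agent.Lib.PSolvable.Omega

/-!
# The faithful character of an extraspecial two-subgroup

`Sp z E` says that the subgroup `E` is extraspecial with centre `{1, z}`; `spin z E` is its faithful
irreducible character, as a function on the ambient group.
-/

set_option autoImplicit false
set_option linter.unusedSectionVars false
set_option linter.style.haveILetI false

namespace CfsgLib.SpinExt

open Cfsg
open scoped ComplexConjugate CfsgLib.Char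

variable {G : Type*} [Group G]

/-- `E` is extraspecial with centre `{1, z}`. -/
structure Sp (z : G) (E : Subgroup G) : Prop where
  mem : z ∈ E
  ne_one : z ≠ 1
  sq_z : z * z = 1
  central : ∀ a ∈ E, Commute a z
  comm : ∀ a ∈ E, ∀ b ∈ E, a * b * a⁻¹ * b⁻¹ = 1 ∨ a * b * a⁻¹ * b⁻¹ = z
  sq : ∀ a ∈ E, a * a = 1 ∨ a * a = z
  center : ∀ a ∈ E, (∀ b ∈ E, Commute a b) → a = 1 ∨ a = z
  exists_ne : ∃ a ∈ E, a ≠ 1 ∧ a ≠ z

/-- The degree of the faithful character. -/
noncomputable def deg (E : Subgroup G) : ℕ := Nat.sqrt (Nat.card E / 2)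

open scoped Classical in
/-- The faithful character. -/
noncomputable def spin (z : G) (E : Subgroup G) (g : G) : ℂ :=
  if g = 1 then (deg E : ℂ) else if g = z then -(deg E : ℂ) else 0

namespace Sp

variable {z : G} {E : Subgroup G} (h : Sp z E)

include h

theorem exists_not_commute : ∃ a ∈ E, ∃ b ∈ E, ¬ Commute a b := by
  obtain ⟨a, ha, ha1, haz⟩ := h.exists_ne
  by_contra hno
  push Not at hno
  rcases h.center a ha (hno a ha) with e | e
  exacts [ha1 e, haz e]

theorem of_le {E₁ : Subgroup G} (hle : E₁ ≤ E) (hz : z ∈ E₁)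
    (hc : ∀ a ∈ E₁, (∀ b ∈ E₁, Commute a b) → a = 1 ∨ a = z)
    (hne : ∃ a ∈ E₁, a ≠ 1 ∧ a ≠ z) : Sp z E₁ where
  mem := hz
  ne_one := h.ne_one
  sq_z := h.sq_z
  central a ha := h.central a (hle ha)
  comm a ha b hb := h.comm a (hle ha) b (hle hb)
  sq a ha := h.sq a (hle ha)
  center := hc
  exists_ne := hne

theorem map {Q : Type*} [Group Q] (f : G →* Q) (hf : Set.InjOn f E) : Sp (f z) (E.map f) where
  mem := Subgroup.mem_map_of_mem f h.mem
  ne_one e := h.ne_one (hf h.mem (one_mem E) (by rw [e, map_one]))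
  sq_z := by rw [← map_mul, h.sq_z, map_one]
  central := by
    rintro _ ⟨a, ha, rfl⟩
    exact (h.central a ha).map f
  comm := by
    rintro _ ⟨a, ha, rfl⟩ _ ⟨b, hb, rfl⟩
    rcases h.comm a ha b hb with e | e
    · left; rw [← map_inv, ← map_inv, ← map_mul, ← map_mul, ← map_mul, e, map_one]
    · right; rw [← map_inv, ← map_inv, ← map_mul, ← map_mul, ← map_mul, e]
  sq := by
    rintro _ ⟨a, ha, rfl⟩
    rcases h.sq a ha with e | e
    · left; rw [← map_mul, e, map_one]
    · right; rw [← map_mul, e]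
  center := by
    rintro _ ⟨a, ha, rfl⟩ hb
    rcases h.center a ha (fun b hb' => hf (mul_mem ha hb') (mul_mem hb' ha)
      (by rw [map_mul, map_mul]; exact hb _ (Subgroup.mem_map_of_mem f hb'))) with e | e
    · left; rw [e, map_one]
    · right; rw [e]
  exists_ne := by
    obtain ⟨a, ha, h1, h2⟩ := h.exists_ne
    exact ⟨f a, Subgroup.mem_map_of_mem f ha, fun e => h1 (hf ha (one_mem E) (by rw [e, map_one])),
      fun e => h2 (hf ha h.mem e)⟩

theorem conj_z {g : G} (hg : g ∈ Subgroup.normalizer (E : Set G)) : g * z * g⁻¹ = z := by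
  have h1 : g * z * g⁻¹ ∈ E := (Subgroup.mem_normalizer_iff.mp hg z).mp h.mem
  refine (h.center _ h1 fun b hb => ?_).resolve_left fun e => h.ne_one (conj_eq_one_iff.mp e)
  have h2 := h.central _ ((Subgroup.mem_normalizer_iff''.mp hg b).mp hb)
  show g * z * g⁻¹ * b = b * (g * z * g⁻¹)
  rw [show b * (g * z * g⁻¹) = g * (g⁻¹ * b * g * z) * g⁻¹ by group, h2.eq]
  group

section Finite

variable [Finite G]

theorem isPGroup : IsPGroup 2 E := fun a => by
  refine ⟨2, Subtype.ext ?_⟩
  show (a : G) ^ 2 ^ 2 = 1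
  rw [show (a : G) ^ 2 ^ 2 = a * a * (a * a) by simp [pow_succ, mul_assoc]]
  rcases h.sq a a.2 with e | e <;> rw [e]
  · rw [mul_one]
  · exact h.sq_z

theorem center_eq : (Subgroup.center E : Set E) = {1, ⟨z, h.mem⟩} := by
  ext x
  simp only [SetLike.mem_coe, Subgroup.mem_center_iff, Set.mem_insert_iff, Set.mem_singleton_iff]
  constructor
  · intro hx
    rcases h.center x x.2 (fun b hb => (congrArg Subtype.val (hx ⟨b, hb⟩)).symm) with e | e
    · exact Or.inl (Subtype.ext e)
    · exact Or.inr (Subtype.ext e)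
  · rintro (rfl | rfl) g
    · simp
    · exact Subtype.ext (h.central g g.2)

theorem isExtraspecial : IsExtraspecial 2 E := by
  haveI : Fact (Nat.Prime 2) := ⟨Nat.prime_two⟩
  have hc := h.center_eq
  have hcom : commutator E = Subgroup.center E := by
    refine le_antisymm ?_ ?_
    · rw [commutator_def, Subgroup.commutator_le]
      intro a _ b _
      rw [← SetLike.mem_coe, hc, Set.mem_insert_iff, Set.mem_singleton_iff]
      rcases h.comm a a.2 b b.2 with e | e
      · exact Or.inl (Subtype.ext (by simpa [commutatorElement_def] using e))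
      · exact Or.inr (Subtype.ext (by simpa [commutatorElement_def] using e))
    · intro x hx
      rw [← SetLike.mem_coe, hc, Set.mem_insert_iff, Set.mem_singleton_iff] at hx
      rcases hx with rfl | rfl
      · exact one_mem _
      · obtain ⟨a, ha, b, hb, hab⟩ := h.exists_not_commute
        have e : a * b * a⁻¹ * b⁻¹ = z := (h.comm a ha b hb).resolve_left fun e => hab (by
          rw [mul_inv_eq_one, mul_inv_eq_iff_eq_mul] at e
          exact e)
        have h1 := Subgroup.commutator_mem_commutator (Subgroup.mem_top (⟨a, ha⟩ : E))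
          (Subgroup.mem_top (⟨b, hb⟩ : E))
        rw [← commutator_def, commutatorElement_def] at h1
        convert h1 using 1
        exact Subtype.ext e.symm
  refine ⟨⟨h.isPGroup, le_antisymm ?_ ?_, hcom⟩, ?_⟩
  · refine hcom ▸ Char.Extraspecial.frattini_le_commutator fun x => ?_
    rw [hcom, ← SetLike.mem_coe, hc, Set.mem_insert_iff, Set.mem_singleton_iff]
    rcases h.sq x x.2 with e | e
    · exact Or.inl (Subtype.ext e)
    · exact Or.inr (Subtype.ext e)
  · exact hcom ▸ (PSolvable.commutator_le_frattini h.isPGroup).1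
  · rw [← Set.ncard_pair (show (1 : E) ≠ ⟨z, h.mem⟩ from fun e =>
      h.ne_one (congrArg Subtype.val e).symm), ← hc, ← Nat.card_coe_set_eq]
    rfl

/-- An irreducible character of degree not one is the faithful character. -/
theorem irr_eq {χ : E → ℂ} (hχ : IsIrrCharacter E χ) (h1 : χ 1 ≠ 1) :
    Nat.card E = 2 * (deg E * deg E) ∧ χ = fun e : E => spin z E (e : G) := by
  classical
  haveI : Fact (Nat.Prime 2) := ⟨Nat.prime_two⟩
  haveI := Fintype.ofFinite E
  obtain ⟨d, hd0, hd⟩ := CfsgLib.Char.exists_nat_degree_irr hχ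
  obtain ⟨hvan, hcard⟩ := Char.Extraspecial.nonlinear h.isExtraspecial hχ hd
    (fun e => h1 (by rw [hd, e, Nat.cast_one]))
  have hdeg : deg E = d := by
    rw [deg, ← hcard, Nat.mul_div_cancel_left _ two_pos, Nat.sqrt_eq]
  refine ⟨hdeg ▸ hcard.symm, ?_⟩
  have hz1 : (⟨z, h.mem⟩ : E) ≠ 1 := fun e => h.ne_one (congrArg Subtype.val e)
  have hout : ∀ x : E, x ≠ 1 → x ≠ ⟨z, h.mem⟩ → χ x = 0 := fun x hx1 hx2 => hvan x fun hx => by
    have : x ∈ (Subgroup.center E : Set E) := hx
    rw [h.center_eq] at this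
    rcases this with e | e
    exacts [hx1 e, hx2 e]
  have hsum : χ 1 + χ ⟨z, h.mem⟩ = 0 := by
    have h2 := CfsgLib.Char.classInner_irr_ne hχ CfsgLib.Char.isIrrCharacter_one
      (fun e => h1 (congrFun e 1))
    simp only [classInner, map_one, mul_one] at h2
    have h3 : ∑ x : E, χ x = 0 := by
      rcases mul_eq_zero.mp h2 with e | e
      · simp [Nat.card_pos.ne'] at e
      · exact e
    rw [← h3]
    exact (Finset.sum_eq_add (1 : E) ⟨z, h.mem⟩ hz1.symm (fun x _ hx => hout x hx.1 hx.2)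
      (fun hx => absurd (Finset.mem_univ _) hx) (fun hx => absurd (Finset.mem_univ _) hx)).symm
  funext x
  by_cases hx1 : x = 1
  · subst hx1; simp [spin, hd, hdeg]
  by_cases hx2 : x = ⟨z, h.mem⟩
  · subst hx2
    simp only [spin, h.ne_one, if_false, if_true, hdeg, ← hd]
    exact eq_neg_of_add_eq_zero_right hsum
  rw [hout x hx1 hx2, spin, if_neg (show (x : G) ≠ 1 from fun e => hx1 (Subtype.ext e)),
    if_neg (show (x : G) ≠ z from fun e => hx2 (Subtype.ext e))]

theorem spin_irr : IsIrrCharacter E (fun e : E => spin z E (e : G)) ∧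
    Nat.card E = 2 * (deg E * deg E) ∧ 1 < deg E := by
  classical
  haveI : Fact (Nat.Prime 2) := ⟨Nat.prime_two⟩
  obtain ⟨hn, m, -, -, hm⟩ := Char.Extraspecial.card_nonlinear h.isExtraspecial
  obtain ⟨⟨χ, hχ⟩⟩ : Nonempty {χ : IrrCharacter E // (χ : E → ℂ) 1 ≠ 1} :=
    (Nat.card_pos_iff.mp (by rw [hn]; norm_num)).1
  obtain ⟨hc, he⟩ := h.irr_eq χ.2 hχ
  refine ⟨he ▸ χ.2, hc, ?_⟩
  obtain ⟨hm1, hm2⟩ := hm χ hχ
  rw [congrFun he 1] at hm1
  simp only [OneMemClass.coe_one, spin, if_true] at hm1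
  rw [Nat.cast_inj] at hm1
  omega

theorem deg_pos : 0 < deg E := by
  have := h.spin_irr.2.2
  omega

omit [Finite G] in
theorem spin_conj [Finite G] {E' : Subgroup G} {g : G} (hz : g * z * g⁻¹ = z)
    (hcard : Nat.card E' = Nat.card E) (x : G) : spin z E (g * x * g⁻¹) = spin z E' x := by
  have h1 : g * x * g⁻¹ = 1 ↔ x = 1 := conj_eq_one_iff
  have h2 : g * x * g⁻¹ = z ↔ x = z := by
    constructor
    · exact fun e => mul_left_cancel (mul_right_cancel (e.trans hz.symm))
    · rintro rfl; exact hz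
  classical
  simp only [spin, deg, hcard]
  exact if_congr h1 rfl (if_congr h2 rfl rfl)

theorem isPGroup_sup {X : Subgroup G} (hX : IsPGroup 2 X)
    (hn : X ≤ Subgroup.normalizer (E : Set G)) : IsPGroup 2 ↥(E ⊔ X) := by
  haveI : Fact (Nat.Prime 2) := ⟨Nat.prime_two⟩
  exact h.isPGroup.to_sup_of_normal_left' hX hn

end Finite

end Sp

/-- From the statement to `Sp`. -/
theorem exists_sp [Finite G] (E : Subgroup G) (hE : IsExtraspecial 2 E) : ∃ z, Sp z E := by
  classical
  haveI : Fact (Nat.Prime 2) := ⟨Nat.prime_two⟩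
  obtain ⟨⟨hp, hfr, hcom⟩, hcard⟩ := hE
  obtain ⟨w, hw⟩ := exists_prime_orderOf_dvd_card' (G := Subgroup.center E) 2 (by rw [hcard])
  have hw2 : w * w = 1 := by rw [← pow_two, ← hw, pow_orderOf_eq_one]
  have hw1 : w ≠ 1 := fun e => by rw [e, orderOf_one] at hw; omega
  haveI := Fintype.ofFinite (Subgroup.center E)
  have huniv : ∀ v : Subgroup.center E, v = 1 ∨ v = w := by
    intro v
    by_contra hv
    push Not at hv
    have h3 : ({1, w, v} : Finset (Subgroup.center E)).card = 3 :=
      Finset.card_eq_three.mpr ⟨1, w, v, hw1.symm, hv.1.symm, hv.2.symm, rfl⟩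
    have := Finset.card_le_univ ({1, w, v} : Finset (Subgroup.center E))
    rw [h3, ← Nat.card_eq_fintype_card, hcard] at this
    omega
  have hval : ∀ v : E, v ∈ Subgroup.center E → (v : G) = 1 ∨ (v : G) = ((w : E) : G) := by
    intro v hv
    rcases huniv ⟨v, hv⟩ with e | e
    · exact Or.inl (congrArg (fun u : Subgroup.center E => ((u : E) : G)) e)
    · exact Or.inr (congrArg (fun u : Subgroup.center E => ((u : E) : G)) e)
  refine ⟨((w : E) : G), (w : E).2, fun e => hw1 (Subtype.ext (Subtype.ext e)),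
    congrArg (fun u : Subgroup.center E => ((u : E) : G)) hw2, fun a ha => ?_, fun a ha b hb => ?_,
    fun a ha => ?_, fun a ha hab => ?_, ?_⟩
  · exact congrArg Subtype.val (Subgroup.mem_center_iff.mp w.2 ⟨a, ha⟩)
  · refine hval (⟨a, ha⟩ * ⟨b, hb⟩ * ⟨a, ha⟩⁻¹ * ⟨b, hb⟩⁻¹) ?_
    rw [← hcom, commutator_def, ← commutatorElement_def]
    exact Subgroup.commutator_mem_commutator (Subgroup.mem_top _) (Subgroup.mem_top _)
  · refine hval (⟨a, ha⟩ * ⟨a, ha⟩) ?_
    have h1 := (PSolvable.commutator_le_frattini hp).2 (⟨a, ha⟩ : E)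
    rw [hfr, pow_two] at h1
    exact h1
  · exact hval ⟨a, ha⟩ (Subgroup.mem_center_iff.mpr fun g => Subtype.ext (hab g g.2).symm)
  · by_contra hno
    push Not at hno
    have hbad : commutator E = ⊥ := by
      rw [commutator_def, Subgroup.commutator_eq_bot_iff_le_centralizer]
      intro x _ y _
      apply Subtype.ext
      show (y : G) * x = x * y
      have hzc : ∀ u : E, ((w : E) : G) * u = u * ((w : E) : G) := fun u =>
        (congrArg Subtype.val (Subgroup.mem_center_iff.mp w.2 u)).symm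
      by_cases hx : (x : G) = 1
      · simp [hx]
      · rw [hno x x.2 hx]; exact (hzc y).symm
    rw [hbad] at hcom
    rw [← hcom, Subgroup.card_bot] at hcard
    omega

end CfsgLib.SpinExt
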