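import Cfsg.Agent.Lib.SpinExt.Spinor
import Cfsg.Agent.Lib.Char.RelGlauberman.Coset
import Cfsg.Agent.Lib.Coprime.Action

/-!
# Extensions of the faithful character of an extraspecial subgroup

`Extn z E X η`: `η` is a character of `E ⊔ X` extending the faithful character of `E`. Extensions
pass to cyclic steps under invariance and to commuting products.
-/

set_option autoImplicit false
set_option linter.unusedSectionVars false
set_option linter.style.haveILetI false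

namespace CfsgLib.SpinExt

open Cfsg Module Representation
open scoped ComplexConjugate CfsgLib.Char

variable {G : Type*} [Group G]

/-- `η` restricted to `E ⊔ X` is a character extending the faithful character of `E`. -/
def Extn (z : G) (E X : Subgroup G) (η : G → ℂ) : Prop :=
  IsCharacter ↥(E ⊔ X) (fun g => η g) ∧ ∀ e ∈ E, η e = spin z E e

theorem mem_sup {E X : Subgroup G} (hX : X ≤ Subgroup.normalizer (E : Set G)) {g : G}
    (hg : g ∈ E ⊔ X) : ∃ e ∈ E, ∃ x ∈ X, g = e * x := by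
  rw [← SetLike.mem_coe, Subgroup.coe_mul_of_right_le_normalizer_left _ _ hX, Set.mem_mul] at hg
  obtain ⟨e, he, x, hx, rfl⟩ := hg
  exact ⟨e, he, x, hx, rfl⟩

/-- A character constant on the kernel of a surjection descends. -/
theorem descend {D A : Type*} [Group D] [Finite D] [Group A] [Finite A] (f : D →* A)
    (hf : Function.Surjective f) {χ : D → ℂ} (hχ : IsCharacter D χ)
    (h : ∀ k, f k = 1 → χ k = χ 1) : ∃ ψ : A → ℂ, IsCharacter A ψ ∧ ∀ x, ψ (f x) = χ x := by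
  obtain ⟨d, σ, rfl⟩ := hχ
  have hker : f.ker ≤ MonoidHom.ker (σ.asGroupHom) := by
    intro k hk
    have h1 := h k hk
    rw [Representation.char_one] at h1
    refine MonoidHom.mem_ker.mpr (Units.ext ?_)
    rw [Representation.asGroupHom_apply]
    exact ((CfsgLib.Char.character_eq_finrank_iff σ k).mp h1).trans rfl
  let g := f.liftOfSurjective hf ⟨σ.asGroupHom, hker⟩
  let τ : Representation ℂ A (Fin d → ℂ) := (Units.coeHom _).comp g
  have hcomp : ∀ x, τ (f x) = σ x := fun x => by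
    show ((g (f x) : (Module.End ℂ (Fin d → ℂ))ˣ) : Module.End ℂ (Fin d → ℂ)) = σ x
    rw [show g (f x) = σ.asGroupHom x from MonoidHom.liftOfRightInverse_comp_apply _ _ _ _ _]
    exact Representation.asGroupHom_apply σ x
  exact ⟨τ.character, ⟨d, τ, rfl⟩, fun x => by
    show LinearMap.trace ℂ _ (τ (f x)) = LinearMap.trace ℂ _ (σ x)
    rw [hcomp]⟩

namespace Extn

variable {z : G} {E X : Subgroup G} {η : G → ℂ}

theorem restrict {X₀ : Subgroup G} (h : Extn z E X η) (hle : X₀ ≤ X) : Extn z E X₀ η :=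
  ⟨CfsgLib.Char.isCharacter_comp (Subgroup.inclusion (sup_le_sup_left hle E)) h.1, h.2⟩

theorem classFun [Finite G] (h : Extn z E X η) {g y : G} (hg : g ∈ E ⊔ X) (hy : y ∈ E ⊔ X) :
    η (y * g * y⁻¹) = η g :=
  CfsgLib.Char.isClassFunction_of_isCharacter h.1 ⟨g, hg⟩ ⟨y, hy⟩

variable [Finite G]

theorem conjugate (h : Extn z E X η) (hE : Sp z E) {E' : Subgroup G} {s : G}
    (hz : s * z * s⁻¹ = z) (hcard : Nat.card E' = Nat.card E)
    (hE' : ∀ e ∈ E', s * e * s⁻¹ ∈ E) (hX : ∀ x ∈ X, s * x * s⁻¹ ∈ X) :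
    Extn z E' X (fun g => η (s * g * s⁻¹)) := by
  refine ⟨?_, fun e he => (h.2 _ (hE' e he)).trans (hE.spin_conj hz hcard e)⟩
  have hle : E' ⊔ X ≤ (E ⊔ X).comap (MulAut.conj s).toMonoidHom := sup_le
    (fun e he => Subgroup.mem_comap.mpr (Subgroup.mem_sup_left (hE' e he)))
    (fun x hx => Subgroup.mem_comap.mpr (Subgroup.mem_sup_right (hX x hx)))
  let f : ↥(E' ⊔ X) →* ↥(E ⊔ X) :=
    ((MulAut.conj s).toMonoidHom.comp (E' ⊔ X).subtype).codRestrict _ fun g => hle g.2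
  exact CfsgLib.Char.isCharacter_comp f h.1

theorem irr (h : Extn z E X η) (hE : Sp z E) :
    IsIrrCharacter ↥(E ⊔ X) (fun g => η g) ∧
      IsIrrCharacter ↥(E.subgroupOf (E ⊔ X)) (fun n => η ((n : ↥(E ⊔ X)) : G)) := by
  have h1 : IsIrrCharacter ↥(E.subgroupOf (E ⊔ X)) (fun n => η ((n : ↥(E ⊔ X)) : G)) := by
    have h2 := CfsgLib.Blocks.isIrrCharacter_comp_of_surjective hE.spin_irr.1
      (Subgroup.subgroupOfEquivOfLe (le_sup_left : E ≤ E ⊔ X)).toMonoidHom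
      (Subgroup.subgroupOfEquivOfLe (le_sup_left : E ≤ E ⊔ X)).surjective
    convert h2 using 1
    funext n
    exact h.2 _ n.2
  exact ⟨CfsgLib.Char.isIrr_of_restrict _ h.1 h1, h1⟩

theorem exists_ratio (h : Extn z E X η) (hE : Sp z E) (hXE : X ≤ Subgroup.normalizer (E : Set G))
    {η' : G → ℂ} (h' : Extn z E X η') :
    ∃ ν : ↥(E ⊔ X) →* ℂˣ, (∀ g : ↥(E ⊔ X), (g : G) ∈ E → ν g = 1) ∧
      ∀ g : ↥(E ⊔ X), η' g = (ν g : ℂ) * η g := by
  haveI : (E.subgroupOf (E ⊔ X)).Normal :=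
    Subgroup.normal_subgroupOf_of_le_normalizer (sup_le Subgroup.le_normalizer hXE)
  obtain ⟨ν, hν, e⟩ := CfsgLib.Char.extensions_differ _ (h.irr hE).2 (h.irr hE).1 (h'.irr hE).1
    (fun n => rfl) (fun n => (h'.2 ((n : ↥(E ⊔ X)) : G) n.2).trans (h.2 ((n : ↥(E ⊔ X)) : G) n.2).symm)
  exact ⟨ν, fun g hg => hν ⟨g, hg⟩, congrFun e⟩

/-- Invariant extensions go up a cyclic step. -/
theorem extend_step {X₀ : Subgroup G} (h : Extn z E X₀ η) (hE : Sp z E) (hle : X₀ ≤ X)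
    (hXE : X ≤ Subgroup.normalizer (E : Set G)) {s : G} (hs : s ∈ X)
    (hgen : X ≤ X₀ ⊔ Subgroup.zpowers s)
    (hs0 : s ∈ Subgroup.normalizer (X₀ : Set G))
    (hinv : ∀ g ∈ E ⊔ X₀, η (s * g * s⁻¹) = η g) :
    ∃ η' : G → ℂ, Extn z E X η' ∧ ∀ g ∈ E ⊔ X₀, η' g = η g := by
  classical
  set P := E ⊔ X with hP
  have hNP : E ⊔ X₀ ≤ P := sup_le_sup_left hle E
  have hXN : X ≤ Subgroup.normalizer ((E ⊔ X₀ : Subgroup G) : Set G) :=
    hgen.trans (sup_le ((le_sup_right).trans Subgroup.le_normalizer)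
      (Subgroup.zpowers_le.mpr (Coprime.le_normalizer_sup_of_le
        ((Subgroup.zpowers_le.mpr hs).trans hXE) (Subgroup.zpowers_le.mpr hs0)
        (Subgroup.mem_zpowers s))))
  set N := (E ⊔ X₀).subgroupOf P with hN
  haveI : N.Normal := Subgroup.normal_subgroupOf_of_le_normalizer
    (sup_le ((le_sup_left).trans Subgroup.le_normalizer) hXN)
  let s' : P := ⟨s, Subgroup.mem_sup_right hs⟩
  have htop : N ⊔ Subgroup.zpowers s' = ⊤ := by
    have h1 : P ≤ (N ⊔ Subgroup.zpowers s').map P.subtype := by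
      have hN' : E ⊔ X₀ ≤ (N ⊔ Subgroup.zpowers s').map P.subtype := fun g hg =>
        ⟨⟨g, hNP hg⟩, Subgroup.mem_sup_left hg, rfl⟩
      refine sup_le ((le_sup_left).trans hN') (hgen.trans (sup_le ((le_sup_right).trans hN') ?_))
      exact Subgroup.zpowers_le.mpr ⟨s', Subgroup.mem_sup_right (Subgroup.mem_zpowers s'), rfl⟩
    rw [eq_top_iff]
    intro p _
    obtain ⟨q, hq, e⟩ := h1 p.2
    rwa [show p = q from Subtype.ext e.symm]
  set θ : N → ℂ := fun n => η ((n : P) : G) with hθ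
  have hirr : IsIrrCharacter N θ :=
    CfsgLib.Blocks.isIrrCharacter_comp_of_surjective (h.irr hE).1
      (Subgroup.subgroupOfEquivOfLe hNP).toMonoidHom (Subgroup.subgroupOfEquivOfLe hNP).surjective
  haveI := Fintype.ofFinite P
  have hinv' := CfsgLib.Char.Canonical.invariant_of_fixed htop
    (CfsgLib.Char.isClassFunction_of_isCharacter (CfsgLib.Char.isCharacter_of_isIrr hirr))
    (funext fun n => hinv _ n.2)
  obtain ⟨χ, hχ, hres⟩ := CfsgLib.Char.extends_of_cyclic N hirr hinv'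
    (CfsgLib.Char.RelGlauberman.isCyclic_quotient N htop)
  refine ⟨fun g => if hg : g ∈ P then χ ⟨g, hg⟩ else 0, ⟨?_, fun e he => ?_⟩, fun g hg => ?_⟩
  · convert CfsgLib.Char.isCharacter_of_isIrr hχ using 1
    funext g
    beta_reduce
    rw [dif_pos g.2]
  · beta_reduce
    rw [dif_pos (show e ∈ P from Subgroup.mem_sup_left he)]
    exact (hres ⟨⟨e, Subgroup.mem_sup_left he⟩, Subgroup.mem_sup_left he⟩).trans (h.2 e he)
  · beta_reduce
    rw [dif_pos (hNP hg)]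
    exact hres ⟨⟨g, hNP hg⟩, hg⟩

end Extn

section Product

variable [Finite G] {z : G} {E E₁ E₂ X : Subgroup G}
  (hE : Sp z E) (h₁ : Sp z E₁) (h₂ : Sp z E₂)
  (hcomm : ∀ a ∈ E₁, ∀ b ∈ E₂, Commute a b) (hsup : E₁ ⊔ E₂ = E)

include hE h₁ hcomm hsup

theorem meet_eq {a : G} (ha : a ∈ E₁) (ha' : a ∈ E₂) : a = 1 ∨ a = z := by
  refine h₁.center a ha fun b hb => ?_
  exact (hcomm b hb a ha').symm

include h₂

theorem deg_mul : deg E = deg E₁ * deg E₂ := by
  have hn : E₂ ≤ Subgroup.normalizer (E₁ : Set G) := fun b hb =>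
    Subgroup.centralizer_le_normalizer _ fun a ha => hcomm a ha b hb
  have hinf : Nat.card ↥(E₁ ⊓ E₂ : Subgroup G) = 2 := by
    have : ((E₁ ⊓ E₂ : Subgroup G) : Set G) = {1, z} := by
      ext a
      constructor
      · intro ha
        exact meet_eq hE h₁ hcomm hsup (Subgroup.mem_inf.mp ha).1 (Subgroup.mem_inf.mp ha).2
      · rintro (rfl | rfl)
        · exact one_mem _
        · exact Subgroup.mem_inf.mpr ⟨h₁.mem, h₂.mem⟩
    rw [← Set.ncard_pair (Ne.symm hE.ne_one), ← this, ← Nat.card_coe_set_eq]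
    rfl
  have hmul : Nat.card E * Nat.card ↥(E₁ ⊓ E₂ : Subgroup G) = Nat.card E₁ * Nat.card E₂ :=
    hsup ▸ Coprime.card_sup_mul_card_inf hn
  rw [hinf, hE.spin_irr.2.1, h₁.spin_irr.2.1, h₂.spin_irr.2.1] at hmul
  have h4 : deg E * deg E = (deg E₁ * deg E₂) * (deg E₁ * deg E₂) := by linarith
  exact Nat.mul_self_inj.mp h4

theorem spin_mul {a b : G} (ha : a ∈ E₁) (hb : b ∈ E₂) :
    spin z E (a * b) = spin z E₁ a * spin z E₂ b := by
  classical
  have hd : (deg E : ℂ) = deg E₁ * deg E₂ := by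
    rw [deg_mul hE h₁ h₂ hcomm hsup, Nat.cast_mul]
  have hz1 := hE.ne_one
  by_cases hab : (a = 1 ∨ a = z) ∧ (b = 1 ∨ b = z)
  · obtain ⟨rfl | rfl, rfl | rfl⟩ := hab <;> simp [spin, hz1, hE.sq_z, hd]
  have h0 : spin z E₁ a * spin z E₂ b = 0 := by
    rcases not_and_or.mp hab with h | h <;> push Not at h
    · simp [spin, h.1, h.2]
    · simp [spin, h.1, h.2]
  have hne : ∀ w : G, w = 1 ∨ w = z → a * b ≠ w := by
    intro w hw e
    have hwE : w ∈ E₁ ∧ w ∈ E₂ := by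
      rcases hw with rfl | rfl
      exacts [⟨one_mem _, one_mem _⟩, ⟨h₁.mem, h₂.mem⟩]
    have ha' : a ∈ E₂ := by
      rw [show a = w * b⁻¹ by rw [← e, mul_inv_cancel_right]]
      exact mul_mem hwE.2 (inv_mem hb)
    have hb' : b ∈ E₁ := by
      rw [show b = a⁻¹ * w by rw [← e, inv_mul_cancel_left]]
      exact mul_mem (inv_mem ha) hwE.1
    exact hab ⟨meet_eq hE h₁ hcomm hsup ha ha', meet_eq hE h₁ hcomm hsup hb' hb⟩
  rw [h0, spin, if_neg (hne 1 (Or.inl rfl)), if_neg (hne z (Or.inr rfl))]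

/-- Extensions multiply over commuting products. -/
theorem exists_prod (hX₁ : X ≤ Subgroup.normalizer (E₁ : Set G))
    (hX₂ : X ≤ Subgroup.normalizer (E₂ : Set G)) (hd : E ⊓ X = ⊥) {η₁ η₂ : G → ℂ}
    (e₁ : Extn z E₁ X η₁) (e₂ : Extn z E₂ X η₂) :
    ∃ η : G → ℂ, Extn z E X η ∧ ∀ a ∈ E₁, ∀ b ∈ E₂, ∀ x ∈ X,
      η (a * b * x) = η₁ (a * x) * η₂ (b * x) := by
  classical
  have hc : ∀ {K : Subgroup G}, X ≤ Subgroup.normalizer (K : Set G) → ∀ x ∈ X, ∀ a ∈ K,
      x * a * x⁻¹ ∈ K := fun hK x hx a ha => (Subgroup.mem_normalizer_iff.mp (hK hx) a).mp ha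
  let D : Subgroup (G × G × G) :=
    { carrier := {t | ∃ a ∈ E₁, ∃ b ∈ E₂, ∃ x ∈ X, t = (a * x, b * x, a * b * x)}
      one_mem' := ⟨1, one_mem _, 1, one_mem _, 1, one_mem _,
        Prod.ext (mul_one 1).symm (Prod.ext (mul_one 1).symm (by simp))⟩
      mul_mem' := by
        rintro _ _ ⟨a, ha, b, hb, x, hx, rfl⟩ ⟨a', ha', b', hb', x', hx', rfl⟩
        refine ⟨a * (x * a' * x⁻¹), mul_mem ha (hc hX₁ x hx a' ha'), b * (x * b' * x⁻¹),
          mul_mem hb (hc hX₂ x hx b' hb'), x * x', mul_mem hx hx',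
          Prod.ext (by simp [mul_assoc]) (Prod.ext (by simp [mul_assoc]) ?_)⟩
        have h := hcomm _ (hc hX₁ x hx a' ha') b hb
        show a * b * x * (a' * b' * x') = _
        calc a * b * x * (a' * b' * x') = a * (b * (x * a' * x⁻¹)) * (x * b' * x⁻¹) * (x * x') := by
              group
          _ = a * ((x * a' * x⁻¹) * b) * (x * b' * x⁻¹) * (x * x') := by rw [← h.eq]
          _ = _ := by group
      inv_mem' := by
        rintro _ ⟨a, ha, b, hb, x, hx, rfl⟩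
        refine ⟨x⁻¹ * a⁻¹ * x⁻¹⁻¹, hc hX₁ x⁻¹ (inv_mem hx) _ (inv_mem ha),
          x⁻¹ * b⁻¹ * x⁻¹⁻¹, hc hX₂ x⁻¹ (inv_mem hx) _ (inv_mem hb), x⁻¹, inv_mem hx,
          Prod.ext ?_ (Prod.ext ?_ ?_)⟩
        · show (a * x)⁻¹ = _; group
        · show (b * x)⁻¹ = _; group
        · show (a * b * x)⁻¹ = _
          rw [(hcomm a ha b hb).eq]
          group }
  have hmem : ∀ t : D, (t : G × G × G).1 ∈ E₁ ⊔ X ∧ (t : G × G × G).2.1 ∈ E₂ ⊔ X ∧
      (t : G × G × G).2.2 ∈ E ⊔ X := by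
    rintro ⟨t, a, ha, b, hb, x, hx, rfl⟩
    exact ⟨mul_mem (Subgroup.mem_sup_left ha) (Subgroup.mem_sup_right hx),
      mul_mem (Subgroup.mem_sup_left hb) (Subgroup.mem_sup_right hx),
      mul_mem (Subgroup.mem_sup_left (hsup ▸ mul_mem (Subgroup.mem_sup_left ha)
        (Subgroup.mem_sup_right hb))) (Subgroup.mem_sup_right hx)⟩
  let p1 : D →* ↥(E₁ ⊔ X) :=
    ((MonoidHom.fst G (G × G)).comp D.subtype).codRestrict _ fun t => (hmem t).1
  let p2 : D →* ↥(E₂ ⊔ X) :=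
    (((MonoidHom.fst G G).comp (MonoidHom.snd G (G × G))).comp D.subtype).codRestrict _
      fun t => (hmem t).2.1
  let p3 : D →* ↥(E ⊔ X) :=
    (((MonoidHom.snd G G).comp (MonoidHom.snd G (G × G))).comp D.subtype).codRestrict _
      fun t => (hmem t).2.2
  have hXE : X ≤ Subgroup.normalizer (E : Set G) :=
    hsup ▸ Coprime.le_normalizer_sup_of_le hX₁ hX₂
  have hsurj : Function.Surjective p3 := by
    rintro ⟨g, hg⟩
    obtain ⟨e, he, x, hx, rfl⟩ := mem_sup hXE hg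
    have hn : E₂ ≤ Subgroup.normalizer (E₁ : Set G) := fun b hb =>
      Subgroup.centralizer_le_normalizer _ fun a ha => hcomm a ha b hb
    obtain ⟨a, ha, b, hb, rfl⟩ := mem_sup hn (hsup.symm ▸ he)
    exact ⟨⟨(a * x, b * x, a * b * x), a, ha, b, hb, x, hx, rfl⟩, rfl⟩
  have hχ := CfsgLib.Char.isCharacter_mul (CfsgLib.Char.isCharacter_comp p1 e₁.1)
    (CfsgLib.Char.isCharacter_comp p2 e₂.1)
  obtain ⟨ψ, hψ, hψe⟩ := descend p3 hsurj hχ fun t ht => by
    obtain ⟨t, a, ha, b, hb, x, hx, rfl⟩ := t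
    have h3 : a * b * x = 1 := congrArg Subtype.val ht
    have hx1 : x = 1 := by
      have hab : a * b ∈ E :=
        hsup ▸ mul_mem (Subgroup.mem_sup_left ha) (Subgroup.mem_sup_right hb)
      have : x ∈ E ⊓ X := Subgroup.mem_inf.mpr
        ⟨by rw [eq_inv_of_mul_eq_one_right h3]; exact inv_mem hab, hx⟩
      rwa [hd, Subgroup.mem_bot] at this
    subst hx1
    rw [mul_one] at h3
    show η₁ (a * 1) * η₂ (b * 1) = η₁ 1 * η₂ 1
    rw [mul_one, mul_one, e₁.2 a ha, e₂.2 b hb, e₁.2 1 (one_mem _), e₂.2 1 (one_mem _),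
      ← spin_mul hE h₁ h₂ hcomm hsup ha hb,
      ← spin_mul hE h₁ h₂ hcomm hsup (one_mem _) (one_mem _), h3, mul_one]
  let η : G → ℂ := fun g => if hg : g ∈ E ⊔ X then ψ ⟨g, hg⟩ else 0
  have hval : ∀ a ∈ E₁, ∀ b ∈ E₂, ∀ x ∈ X, η (a * b * x) = η₁ (a * x) * η₂ (b * x) := by
    intro a ha b hb x hx
    let t : D := ⟨(a * x, b * x, a * b * x), a, ha, b, hb, x, hx, rfl⟩
    have hg : a * b * x ∈ E ⊔ X := (hmem t).2.2
    show (if hg : a * b * x ∈ E ⊔ X then ψ ⟨_, hg⟩ else 0) = _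
    rw [dif_pos hg]
    exact hψe t
  refine ⟨η, ⟨?_, fun e he => ?_⟩, hval⟩
  · convert hψ using 1
    funext g
    show (if hg : (g : G) ∈ E ⊔ X then ψ ⟨_, hg⟩ else 0) = _
    rw [dif_pos g.2]
  · have hn : E₂ ≤ Subgroup.normalizer (E₁ : Set G) := fun b hb =>
      Subgroup.centralizer_le_normalizer _ fun a ha => hcomm a ha b hb
    obtain ⟨a, ha, b, hb, rfl⟩ := mem_sup hn (hsup.symm ▸ he)
    have := hval a ha b hb 1 (one_mem X)
    rw [mul_one, mul_one, mul_one] at this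
    rw [this, e₁.2 a ha, e₂.2 b hb, spin_mul hE h₁ h₂ hcomm hsup ha hb]

end Product

end CfsgLib.SpinExt
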